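import Cfsg.Prelude.Def_HallClasses
import Mathlib

/-!
Pronormality of the subgroups of odd index, abstract part: a criterion on the overgroups of a Sylow
2-subgroup `S` and the elements of its normaliser, which passes to central quotients and to products.
-/

set_option autoImplicit false
set_option linter.unusedSectionVars false

namespace Cfsg.Agent.Lib.SpPronormal50

open Subgroup

universe u v

variable {G : Type u} [Group G]

/-- The conjugate `a H a⁻¹`. -/
abbrev cj (H : Subgroup G) (a : G) : Subgroup G := H.map (MulAut.conj a).toMonoidHom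

theorem mem_cj {H : Subgroup G} {a z : G} : z ∈ cj H a ↔ ∃ h ∈ H, a * h * a⁻¹ = z := by
  simp [cj, Subgroup.mem_map]

theorem conj_mem_cj {H : Subgroup G} {h : G} (hh : h ∈ H) (a : G) : a * h * a⁻¹ ∈ cj H a :=
  mem_cj.2 ⟨h, hh, rfl⟩

theorem cj_mul (H : Subgroup G) (a b : G) : cj (cj H b) a = cj H (a * b) := by
  ext z
  simp only [mem_cj]
  constructor
  · rintro ⟨_, ⟨h, hh, rfl⟩, rfl⟩
    exact ⟨h, hh, by group⟩
  · rintro ⟨h, hh, rfl⟩
    exact ⟨_, ⟨h, hh, rfl⟩, by group⟩

theorem cj_eq_of_normalizes {H : Subgroup G} {b : G} (hb : b ∈ normalizer (H : Set G)) : cj H b = H := by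
  have hb' := Subgroup.mem_normalizer_iff.1 hb
  ext z
  rw [mem_cj]
  constructor
  · rintro ⟨h, hh, rfl⟩
    exact (hb' h).1 hh
  · intro hz
    refine ⟨b⁻¹ * z * b, (hb' _).2 ?_, by group⟩
    rwa [show b * (b⁻¹ * z * b) * b⁻¹ = z by group]

theorem mem_normalizer_of_forall [Finite G] {H : Subgroup G} {g : G} (hg : ∀ h ∈ H, g * h * g⁻¹ ∈ H) :
    g ∈ normalizer (H : Set G) := by
  have hle : cj H g ≤ H := by
    intro z hz
    obtain ⟨h, hh, rfl⟩ := mem_cj.1 hz
    exact hg h hh
  have heq : cj H g = H := Subgroup.eq_of_le_of_card_ge hle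
    (by rw [Subgroup.card_map_of_injective (f := (MulAut.conj g).toMonoidHom) (MulAut.conj g).injective])
  rw [Subgroup.mem_normalizer_iff]
  intro h
  refine ⟨hg h, fun hh => ?_⟩
  rw [← heq, mem_cj] at hh
  obtain ⟨h', hh', e⟩ := hh
  exact (mul_left_cancel (mul_right_cancel e)) ▸ hh'

/-- The strong criterion: the normaliser of `S` is abelian modulo `S`, and for an overgroup `H` of `S`
and `a` normalising `S`, either `a` lies in `⟨H, aHa⁻¹⟩` or it normalises `H`. -/
def Good (S : Subgroup G) : Prop :=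
  (∀ a ∈ normalizer (S : Set G), ∀ b ∈ normalizer (S : Set G), a * b * a⁻¹ * b⁻¹ ∈ S) ∧
    ∀ H : Subgroup G, S ≤ H → ∀ a ∈ normalizer (S : Set G),
      a ∈ H ⊔ cj H a ∨ a ∈ normalizer (H : Set G)

/-- The weak criterion. -/
def Prn (S : Subgroup G) : Prop :=
  ∀ H : Subgroup G, S ≤ H → ∀ a ∈ normalizer (S : Set G), ∃ x ∈ H ⊔ cj H a, cj H a = cj H x

/-- A self-normalising subgroup is good. -/
theorem good_of_normalizer_le {S : Subgroup G} (h : normalizer (S : Set G) ≤ S) : Good S :=
  ⟨fun _ ha _ hb => mul_mem (mul_mem (mul_mem (h ha) (h hb)) (inv_mem (h ha))) (inv_mem (h hb)),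
    fun _ hSH _ ha => Or.inl (Subgroup.mem_sup_left (hSH (h ha)))⟩

/-- The criterion passes to quotients by subgroups of `S`. -/
theorem good_map [Finite G] {G' : Type v} [Group G'] (π : G →* G') (hπ : Function.Surjective π)
    {S : Subgroup G} (hker : π.ker ≤ S) (h : Good S) : Good (S.map π) := by
  have hlift : ∀ a' ∈ normalizer ((S.map π : Subgroup G') : Set G'),
      ∃ a ∈ normalizer (S : Set G), π a = a' := by
    intro a' ha'
    obtain ⟨a, rfl⟩ := hπ a'
    refine ⟨a, mem_normalizer_of_forall fun s hs => ?_, rfl⟩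
    have h1 := (Subgroup.mem_normalizer_iff.1 ha' (π s)).1 (Subgroup.mem_map_of_mem π hs)
    rw [← map_inv, ← map_mul, ← map_mul, ← Subgroup.mem_comap,
      Subgroup.comap_map_eq, sup_eq_left.2 hker] at h1
    exact h1
  refine ⟨fun a' ha' b' hb' => ?_, fun H hSH a' ha' => ?_⟩
  · obtain ⟨a, ha, rfl⟩ := hlift a' ha'
    obtain ⟨b, hb, rfl⟩ := hlift b' hb'
    exact ⟨_, h.1 a ha b hb, by simp⟩
  · obtain ⟨a, ha, rfl⟩ := hlift a' ha'
    have hSH' : S ≤ H.comap π := (Subgroup.le_comap_map π S).trans (Subgroup.comap_mono hSH)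
    rcases h.2 (H.comap π) hSH' a ha with h1 | h1
    · left
      have h2 := Subgroup.mem_map_of_mem π h1
      rw [Subgroup.map_sup, Subgroup.map_comap_eq_self_of_surjective hπ] at h2
      refine (sup_le_sup_left ?_ H) h2
      rintro _ ⟨z, hz, rfl⟩
      obtain ⟨k, hk, rfl⟩ := mem_cj.1 hz
      rw [map_mul, map_mul, map_inv]
      exact conj_mem_cj (show π k ∈ H from hk) _
    · right
      haveI : Finite G' := Finite.of_surjective π hπ
      refine mem_normalizer_of_forall fun k hk => ?_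
      obtain ⟨k, rfl⟩ := hπ k
      have := (Subgroup.mem_normalizer_iff.1 h1 k).1 hk
      simpa using this

section Pi

variable {ι : Type} [Finite ι] {Gi : ι → Type v} [∀ i, Group (Gi i)] [∀ i, Finite (Gi i)]

/-- The product of Sylow subgroups. -/
noncomputable def piSylow (p : ℕ) [Fact p.Prime] (P : ∀ i, Sylow p (Gi i)) : Sylow p (∀ i, Gi i) where
  toSubgroup := Subgroup.pi Set.univ fun i => (P i : Subgroup (Gi i))
  isPGroup' := by
    rintro ⟨x, hx⟩
    haveI := Fintype.ofFinite ι
    choose k hk using fun i => (P i).isPGroup' ⟨x i, hx i (Set.mem_univ i)⟩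
    refine ⟨∑ i, k i, Subtype.ext (funext fun i => ?_)⟩
    show x i ^ p ^ (∑ i, k i) = 1
    obtain ⟨c, hc⟩ := pow_dvd_pow p (Finset.single_le_sum (fun j _ => Nat.zero_le (k j)) (Finset.mem_univ i))
    have := congrArg Subtype.val (hk i)
    rw [hc, pow_mul]
    simp only [SubmonoidClass.coe_pow, OneMemClass.coe_one] at this
    rw [this, one_pow]
  is_maximal' := by
    intro U hU hle
    refine le_antisymm (fun x hx i _ => ?_) hle
    have h := (P i).is_maximal' (hU.map (Pi.evalMonoidHom Gi i)) (fun y hy => ?_)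
    · show x i ∈ (P i : Subgroup (Gi i))
      rw [← h]
      exact ⟨x, hx, rfl⟩
    · classical
      refine ⟨Pi.mulSingle i y, hle fun j _ => ?_, by simp⟩
      by_cases hj : j = i
      · subst hj; simpa using hy
      · simp [hj]

theorem prn_pi (P : ∀ i, Sylow 2 (Gi i)) (h : ∀ i, Good (P i : Subgroup (Gi i))) :
    Prn (piSylow 2 P : Subgroup (∀ i, Gi i)) := by
  classical
  haveI : Fact (Nat.Prime 2) := ⟨Nat.prime_two⟩
  intro H hSH a ha
  have hsingle : ∀ i, ∀ y ∈ (P i : Subgroup (Gi i)), Pi.mulSingle i y ∈ H := fun i y hy =>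
    hSH fun j _ => by
      by_cases hj : j = i
      · subst hj; simpa using hy
      · simp [hj]
  have hai : ∀ i, a i ∈ normalizer ((P i : Subgroup (Gi i)) : Set (Gi i)) := fun i =>
    mem_normalizer_of_forall fun y hy => by
      have h1 : (Pi.mulSingle i y : ∀ j, Gi j) ∈ (piSylow 2 P : Subgroup (∀ j, Gi j)) := fun j _ => by
        by_cases hj : j = i
        · subst hj; simpa using hy
        · simp [hj]
      have := (Subgroup.mem_normalizer_iff.1 ha _).1 h1 i (Set.mem_univ i)
      simpa using this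
  -- the intersections with the factors
  let Hc : ∀ i, Subgroup (Gi i) := fun i => H.comap (MonoidHom.mulSingle Gi i)
  have hPH : ∀ i, (P i : Subgroup (Gi i)) ≤ Hc i := fun i y hy => hsingle i y hy
  set X := H ⊔ cj H a with hX
  let x : ∀ i, Gi i := fun i => if a i ∈ Hc i ⊔ cj (Hc i) (a i) then a i else 1
  let b : ∀ i, Gi i := fun i => if a i ∈ Hc i ⊔ cj (Hc i) (a i) then 1 else a i
  have hab : x * b = a := funext fun i => by simp only [Pi.mul_apply, x, b]; split <;> simp
  have hb1 : ∀ i, b i ∈ normalizer (Hc i : Set (Gi i)) := fun i => by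
    simp only [b]
    split
    · exact one_mem _
    · rename_i hni
      exact ((h i).2 _ (hPH i) _ (hai i)).resolve_left hni
  have hb2 : ∀ i, b i ∈ normalizer ((P i : Subgroup (Gi i)) : Set (Gi i)) := fun i => by
    simp only [b]
    split
    · exact one_mem _
    · exact hai i
  refine ⟨x, ?_, ?_⟩
  · refine Subgroup.pi_mem_of_mulSingle_mem x fun i => ?_
    simp only [x]
    split
    · rename_i hi
      have hle : Hc i ⊔ cj (Hc i) (a i) ≤ X.comap (MonoidHom.mulSingle Gi i) := by
        refine sup_le (fun y hy => Subgroup.mem_sup_left (show Pi.mulSingle i y ∈ H from hy)) fun z hz => ?_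
        obtain ⟨y, hy, rfl⟩ := mem_cj.1 hz
        have e : (Pi.mulSingle i (a i * y * (a i)⁻¹) : ∀ j, Gi j) = a * Pi.mulSingle i y * a⁻¹ :=
          funext fun j => by
            by_cases hj : j = i
            · subst hj; simp
            · simp [hj]
        show Pi.mulSingle i (a i * y * (a i)⁻¹) ∈ X
        rw [e]
        exact Subgroup.mem_sup_right (conj_mem_cj (show Pi.mulSingle i y ∈ H from hy) a)
      exact hle hi
    · simp
  · have hbH : b ∈ normalizer (H : Set (∀ i, Gi i)) := by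
      refine mem_normalizer_of_forall fun g hg => ?_
      -- the components of `g`
      have hcomp : ∀ i, ∃ k ∈ Hc i, ∃ β ∈ normalizer ((P i : Subgroup (Gi i)) : Set (Gi i)),
          g i = β * k := by
        intro i
        let R : Subgroup (Gi i) := H.map (Pi.evalMonoidHom Gi i)
        have hgR : g i ∈ R := ⟨g, hg, rfl⟩
        have hcR : Hc i ≤ R := fun y hy => ⟨_, hy, by simp⟩
        have hPR : (P i : Subgroup (Gi i)) ≤ R := (hPH i).trans hcR
        let K : Subgroup R := (Hc i).subgroupOf R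
        haveI : K.Normal := by
          constructor
          rintro ⟨y, _⟩ hy ⟨_, r, hr, rfl⟩
          show Pi.mulSingle i ((r i) * y * (r i)⁻¹) ∈ H
          have e : (Pi.mulSingle i (r i * y * (r i)⁻¹) : ∀ j, Gi j) = r * Pi.mulSingle i y * r⁻¹ :=
            funext fun j => by
              by_cases hj : j = i
              · subst hj; simp
              · simp [hj]
          rw [e]
          exact mul_mem (mul_mem hr (show Pi.mulSingle i y ∈ H from hy)) (inv_mem hr)
        have hPK : (((P i).subtype hPR : Sylow 2 R) : Subgroup R) ≤ K := by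
          rw [Sylow.coe_subtype]
          exact fun y hy => hPH i hy
        have htop := Sylow.normalizer_sup_eq_top' ((P i).subtype hPR) hPK
        obtain ⟨m, hm, k, hk, hmk⟩ : ∃ m ∈ normalizer ((((P i).subtype hPR : Sylow 2 R) : Subgroup R) : Set R),
            ∃ k ∈ K, m * k = ⟨g i, hgR⟩ :=
          Subgroup.mem_sup_of_normal_right.1 (htop ▸ Subgroup.mem_top _)
        refine ⟨(k : Gi i), hk, (m : Gi i), mem_normalizer_of_forall fun y hy => ?_,
          (congrArg Subtype.val hmk).symm⟩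
        have hy' : (⟨y, hPR hy⟩ : R) ∈ (((P i).subtype hPR : Sylow 2 R) : Subgroup R) := by
          rw [Sylow.coe_subtype]; exact hy
        have h1 := (Subgroup.mem_normalizer_iff.1 hm _).1 hy'
        rw [Sylow.coe_subtype] at h1
        exact h1
      have hd : (b * g * b⁻¹) * g⁻¹ ∈ H := by
        refine Subgroup.pi_mem_of_mulSingle_mem _ fun i => ?_
        obtain ⟨k, hk, β, hβ, e⟩ := hcomp i
        show (b i * g i * (b i)⁻¹) * (g i)⁻¹ ∈ Hc i
        rw [e, show b i * (β * k) * (b i)⁻¹ * (β * k)⁻¹ =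
          (b i * β * (b i)⁻¹ * β⁻¹) * (β * ((b i * k * (b i)⁻¹) * k⁻¹) * β⁻¹) by group]
        refine mul_mem (hPH i ((h i).1 _ (hb2 i) _ hβ)) ?_
        have hgi : ∀ y ∈ Hc i, g i * y * (g i)⁻¹ ∈ Hc i := by
          intro y hy
          show Pi.mulSingle i (g i * y * (g i)⁻¹) ∈ H
          have e' : (Pi.mulSingle i (g i * y * (g i)⁻¹) : ∀ j, Gi j) = g * Pi.mulSingle i y * g⁻¹ :=
            funext fun j => by
              by_cases hj : j = i
              · subst hj; simp
              · simp [hj]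
          rw [e']
          exact mul_mem (mul_mem hg (show Pi.mulSingle i y ∈ H from hy)) (inv_mem hg)
        have hw : b i * k * (b i)⁻¹ * k⁻¹ ∈ Hc i :=
          mul_mem ((Subgroup.mem_normalizer_iff.1 (hb1 i) k).1 hk) (inv_mem hk)
        have := hgi _ (mul_mem (mul_mem (inv_mem (inv_mem hk)) hw) (inv_mem hk))
        have hgb := hgi _ (show k⁻¹ * (b i * k * (b i)⁻¹ * k⁻¹) * k ∈ Hc i from
          mul_mem (mul_mem (inv_mem hk) hw) hk)
        rw [e] at hgb
        convert hgb using 1
        group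
      simpa using mul_mem hd hg
    rw [← hab, ← cj_mul, cj_eq_of_normalizes hbH]

end Pi

/-- The weak criterion gives pronormality of all subgroups of odd index. -/
theorem isPronormal_of_prn [Finite G] (P : Sylow 2 G) (h : Prn (P : Subgroup G)) (H : Subgroup G)
    (hH : Odd H.index) : Cfsg.IsPronormal H := by
  haveI : Fact (Nat.Prime 2) := ⟨Nat.prime_two⟩
  obtain ⟨R⟩ : Nonempty (Sylow 2 H) := inferInstance
  have hidx : ¬ 2 ∣ ((R : Subgroup H).map H.subtype).index := by
    rw [Subgroup.index_map_subtype]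
    exact Nat.prime_two.not_dvd_mul R.not_dvd_index (Nat.two_dvd_ne_zero.2 (Nat.odd_iff.1 hH))
  let Q : Sylow 2 G := (R.isPGroup'.map H.subtype).toSylow hidx
  have hQ : (Q : Subgroup G) ≤ H := Subgroup.map_subtype_le _
  obtain ⟨c, hc⟩ := MulAction.exists_smul_eq G P Q
  have hPc : (P : Subgroup G) ≤ cj H c⁻¹ := by
    intro z hz
    have hz' : c * z * c⁻¹ ∈ (Q : Subgroup G) := by
      rw [← hc, Sylow.coe_subgroup_smul]
      exact ⟨z, hz, rfl⟩
    exact mem_cj.2 ⟨_, hQ hz', by group⟩
  set H₀ := cj H c⁻¹ with hH₀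
  intro g
  set g₀ := c⁻¹ * g * c with hg₀
  set K := H₀ ⊔ cj H₀ g₀ with hK
  have h1 : (P : Subgroup G) ≤ K := hPc.trans le_sup_left
  have h2 : ((g₀ • P : Sylow 2 G) : Subgroup G) ≤ K := by
    refine le_trans ?_ (le_sup_right (a := H₀))
    rw [Sylow.coe_subgroup_smul]
    exact Subgroup.map_mono hPc
  obtain ⟨y, hy⟩ := MulAction.exists_smul_eq ↥K (P.subtype h1) ((g₀ • P).subtype h2)
  have hyP : ((y : G) • P : Sylow 2 G) = g₀ • P := by
    have hle : (((y : G) • P : Sylow 2 G) : Subgroup G) ≤ K := by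
      rw [Sylow.coe_subgroup_smul]
      rintro _ ⟨z, hz, rfl⟩
      exact K.mul_mem (K.mul_mem y.2 (h1 hz)) (K.inv_mem y.2)
    refine Sylow.subtype_injective (hP := hle) (hQ := h2) ?_
    rw [← hy, Sylow.smul_subtype]
    rfl
  have ha : (y : G)⁻¹ * g₀ ∈ normalizer ((P : Subgroup G) : Set G) :=
    Sylow.smul_eq_iff_mem_normalizer.mp (by rw [mul_smul, ← hyP, inv_smul_smul])
  obtain ⟨x, hx, he⟩ := h H₀ hPc _ ha
  have hxK : x ∈ K := by
    refine (sup_le le_sup_left ?_ : H₀ ⊔ cj H₀ ((y : G)⁻¹ * g₀) ≤ K) hx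
    intro z hz
    rw [← cj_mul] at hz
    obtain ⟨w, hw, rfl⟩ := mem_cj.1 hz
    exact mul_mem (mul_mem (inv_mem y.2) (Subgroup.mem_sup_right hw)) (inv_mem (inv_mem y.2))
  refine ⟨c * ((y : G) * x) * c⁻¹, ?_, ?_⟩
  · have hKle : cj K c ≤ H ⊔ cj H g := by
      show (H₀ ⊔ cj H₀ g₀).map _ ≤ _
      rw [Subgroup.map_sup]
      show cj H₀ c ⊔ cj (cj H₀ g₀) c ≤ _
      rw [cj_mul, hH₀, cj_mul, cj_mul, hg₀,
        show c * c⁻¹ = 1 by group, show c * (c⁻¹ * g * c) * c⁻¹ = g by group,
        cj_eq_of_normalizes (one_mem _)]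
    exact hKle (conj_mem_cj (K.mul_mem y.2 hxK) c)
  · show cj H g = cj H (c * ((y : G) * x) * c⁻¹)
    have e : cj (cj H₀ ((y : G)⁻¹ * g₀)) (c * y) = cj (cj H₀ x) (c * y) := by rw [he]
    rw [cj_mul, cj_mul, hH₀, cj_mul, cj_mul, hg₀] at e
    convert e using 2 <;> group

end Cfsg.Agent.Lib.SpPronormal50
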