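import Cfsg.Agent.Lib.SpPronormal50.SLTwo
import Mathlib

/-!
The symplectic group as the group of matrices over the ring of two by two matrices that are unitary for
the adjugate: block monomial elements, and the elements supported on a plane.
-/

set_option autoImplicit false
set_option linter.unusedSectionVars false
set_option linter.style.haveILetI false

namespace Cfsg.Agent.Lib.SpPronormal50

open Matrix Cfsg.Agent.Lib.PSLTwo.Sylow

universe v

variable {F : Type v} [Field F]

/-- The adjugate of two by two matrices, additively. -/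
def adjHom : Matrix (Fin 2) (Fin 2) F →+ Matrix (Fin 2) (Fin 2) F where
  toFun A := A.adjugate
  map_zero' := by ext i j; fin_cases i <;> fin_cases j <;> simp [Matrix.adjugate_fin_two]
  map_add' A B := by
    ext i j; fin_cases i <;> fin_cases j <;> simp [Matrix.adjugate_fin_two] <;> ring

theorem adj_sum {κ : Type*} (s : Finset κ) (f : κ → Matrix (Fin 2) (Fin 2) F) :
    (∑ k ∈ s, f k).adjugate = ∑ k ∈ s, (f k).adjugate := map_sum adjHom f s

theorem adj_zero : (0 : Matrix (Fin 2) (Fin 2) F).adjugate = 0 := map_zero adjHom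

theorem adj_neg (A : Matrix (Fin 2) (Fin 2) F) : (-A).adjugate = -A.adjugate := map_neg adjHom A

theorem adj_sub (A B : Matrix (Fin 2) (Fin 2) F) : (A - B).adjugate = A.adjugate - B.adjugate :=
  map_sub adjHom A B

theorem adj_adj (A : Matrix (Fin 2) (Fin 2) F) : A.adjugate.adjugate = A := by
  ext i j; fin_cases i <;> fin_cases j <;> simp [Matrix.adjugate_fin_two]

variable {ι : Type} [Fintype ι] [DecidableEq ι]

local notation "R2" => Matrix (Fin 2) (Fin 2) F
local notation "SL2" => Matrix.SpecialLinearGroup (Fin 2) F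
local notation "BM" => Matrix ι ι (Matrix (Fin 2) (Fin 2) F)

/-- The adjoint. -/
def adjT (X : BM) : BM := Matrix.of fun i j => (X j i).adjugate

theorem adjT_apply (X : BM) (i j : ι) : adjT X i j = (X j i).adjugate := rfl

theorem adjT_mul (X Y : BM) : adjT (X * Y) = adjT Y * adjT X := by
  ext1 i j
  simp [adjT_apply, Matrix.mul_apply, adj_sum, Matrix.adjugate_mul_distrib]

theorem adjT_one : adjT (1 : BM) = 1 := by
  ext1 i j
  by_cases h : i = j
  · subst h; simp [adjT_apply]
  · simp [adjT_apply, h, Ne.symm h, adj_zero]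

theorem adjT_adjT (X : BM) : adjT (adjT X) = X := by
  ext1 i j
  rw [adjT_apply, adjT_apply, adj_adj]

/-- The symplectic group in block form. -/
def U (ι : Type) [Fintype ι] [DecidableEq ι] (F : Type v) [Field F] : Subgroup (Matrix ι ι (Matrix (Fin 2) (Fin 2) F))ˣ where
  carrier := {X | adjT X.val = (X⁻¹).val}
  one_mem' := by simp [adjT_one]
  mul_mem' {X Y} hX hY := by
    simp only [Set.mem_ofPred_eq] at *
    rw [Units.val_mul, adjT_mul, hX, hY, _root_.mul_inv_rev, Units.val_mul]
  inv_mem' {X} hX := by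
    simp only [Set.mem_ofPred_eq] at *
    rw [← hX, adjT_adjT, inv_inv]

/-- The underlying matrix. -/
def mat (X : U ι F) : BM := X.1.val

theorem mat_mul (X Y : U ι F) : mat (X * Y) = mat X * mat Y := rfl

theorem mat_one : mat (1 : U ι F) = 1 := rfl

theorem mat_inv (X : U ι F) : mat X⁻¹ = adjT (mat X) := X.2.symm

theorem mat_injective : Function.Injective (mat : U ι F → BM) := fun _ _ h => Subtype.ext (Units.ext h)

theorem adjT_mul_self (X : U ι F) : adjT (mat X) * mat X = 1 := by
  rw [← mat_inv, ← mat_mul, inv_mul_cancel, mat_one]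

theorem mul_adjT_self (X : U ι F) : mat X * adjT (mat X) = 1 := by
  rw [← mat_inv, ← mat_mul, mul_inv_cancel, mat_one]

/-- A matrix with a two-sided inverse by the adjoint. -/
def mkU (X : BM) (h : X * adjT X = 1) (h' : adjT X * X = 1) : U ι F := ⟨⟨X, adjT X, h, h'⟩, rfl⟩

/-! ### Block monomial elements -/

/-- A block monomial matrix. -/
def monoMat (d : ι → SL2) (σ : Equiv.Perm ι) : BM :=
  Matrix.of fun i j => if σ j = i then (d i : R2) else 0

theorem monoMat_apply (d : ι → SL2) (σ : Equiv.Perm ι) (i j : ι) :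
    monoMat d σ i j = if σ j = i then (d i : R2) else 0 := rfl

theorem monoMat_mul (d d' : ι → SL2) (σ σ' : Equiv.Perm ι) :
    monoMat d σ * monoMat d' σ' = monoMat (fun i => d i * d' (σ.symm i)) (σ * σ') := by
  ext1 i j
  rw [Matrix.mul_apply, Finset.sum_eq_single (σ' j)]
  · simp only [monoMat_apply, if_pos, Equiv.Perm.mul_apply]
    by_cases h : σ (σ' j) = i
    · refine Eq.trans ?_ (if_pos h).symm
      rw [show σ.symm i = σ' j by rw [← h, Equiv.symm_apply_apply]]
      simp only [if_pos h]
      rfl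
    · refine Eq.trans ?_ (if_neg h).symm
      simp only [if_neg h, zero_mul]
  · intro k _ hk
    simp [monoMat_apply, Ne.symm hk]
  · simp

theorem monoMat_one : monoMat (1 : ι → SL2) 1 = 1 := by
  ext1 i j
  by_cases h : i = j
  · subst h; simp [monoMat_apply]
  · simp [monoMat_apply, h, Ne.symm h]

theorem adjT_monoMat (d : ι → SL2) (σ : Equiv.Perm ι) :
    adjT (monoMat d σ) = monoMat (fun i => (d (σ i))⁻¹) σ⁻¹ := by
  ext1 i j
  rw [adjT_apply, monoMat_apply, monoMat_apply]
  by_cases h : σ i = j
  · rw [if_pos h, if_pos (by rw [← h]; simp), h, Matrix.SpecialLinearGroup.coe_inv]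
  · rw [if_neg h, if_neg (fun e => h (by rw [← e]; simp)), adj_zero]

/-- A block monomial element. -/
def mono (d : ι → SL2) (σ : Equiv.Perm ι) : U ι F :=
  mkU (monoMat d σ)
    (by rw [adjT_monoMat, monoMat_mul, mul_inv_cancel, ← monoMat_one]; congr 1; funext i; simp [Equiv.Perm.inv_def])
    (by rw [adjT_monoMat, monoMat_mul, inv_mul_cancel, ← monoMat_one]; congr 1; funext i; simp [Equiv.Perm.inv_def])

theorem mat_mono (d : ι → SL2) (σ : Equiv.Perm ι) : mat (mono d σ) = monoMat d σ := rfl

theorem mono_mul (d d' : ι → SL2) (σ σ' : Equiv.Perm ι) :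
    (mono d σ : U ι F) * mono d' σ' = mono (fun i => d i * d' (σ.symm i)) (σ * σ') :=
  mat_injective (monoMat_mul d d' σ σ')

theorem mono_one : (mono (1 : ι → SL2) 1 : U ι F) = 1 := mat_injective monoMat_one

theorem mono_inv (d : ι → SL2) (σ : Equiv.Perm ι) :
    (mono d σ : U ι F)⁻¹ = mono (fun i => (d (σ i))⁻¹) σ⁻¹ :=
  mat_injective ((mat_inv _).trans (adjT_monoMat d σ))

theorem mono_inj {d d' : ι → SL2} {σ σ' : Equiv.Perm ι} (h : (mono d σ : U ι F) = mono d' σ') :
    d = d' ∧ σ = σ' := by
  have h' : ∀ i j, monoMat d σ i j = monoMat d' σ' i j := fun i j =>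
    congrFun (congrFun (congrArg mat h) i) j
  have hne : ∀ x : SL2, (x : R2) ≠ 0 := fun x e => by
    have := x.2; rw [e] at this; simp at this
  have hσ : σ = σ' := Equiv.ext fun j => by
    by_contra hne'
    have := h' (σ j) j
    rw [monoMat_apply, monoMat_apply, if_pos rfl, if_neg (Ne.symm hne')] at this
    exact hne _ this
  subst hσ
  refine ⟨funext fun i => ?_, rfl⟩
  have := h' i (σ.symm i)
  rw [monoMat_apply, monoMat_apply, if_pos (Equiv.apply_symm_apply _ _),
    if_pos (Equiv.apply_symm_apply _ _)] at this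
  exact Subtype.ext this

/-- The block diagonal elements. -/
def dia : (ι → SL2) →* U ι F where
  toFun d := mono d 1
  map_one' := mono_one
  map_mul' d d' := by rw [mono_mul, mul_one]; rfl

theorem dia_apply (d : ι → SL2) : (dia d : U ι F) = mono d 1 := rfl

/-- The block permutations. -/
def per : Equiv.Perm ι →* U ι F where
  toFun σ := mono 1 σ
  map_one' := mono_one
  map_mul' σ τ := by rw [mono_mul]; congr 1; funext i; simp

theorem mono_eq (d : ι → SL2) (σ : Equiv.Perm ι) : (mono d σ : U ι F) = dia d * per σ := by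
  show _ = mono d 1 * mono 1 σ
  rw [mono_mul, one_mul]
  congr 1
  funext i; simp

theorem per_conj (σ : Equiv.Perm ι) (d : ι → SL2) :
    (per σ : U ι F) * dia d * (per σ)⁻¹ = dia (fun i => d (σ.symm i)) := by
  show mono 1 σ * mono d 1 * (mono 1 σ)⁻¹ = mono _ 1
  rw [mono_inv, mono_mul, mono_mul, mul_one, mul_inv_cancel]
  congr 1
  funext i; simp

/-! ### Plane elements -/

/-- The matrix `c A dᵀ`. -/
def outer (c : ι → R2) (A : R2) (d : ι → R2) : BM := Matrix.of fun i j => c i * A * d j

theorem outer_apply (c : ι → R2) (A : R2) (d : ι → R2) (i j : ι) : outer c A d i j = c i * A * d j := rfl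

theorem outer_mul (a : ι → R2) (A : R2) (b c : ι → R2) (B : R2) (d : ι → R2) :
    outer a A b * outer c B d = outer a (A * (∑ k, b k * c k) * B) d := by
  ext1 i j
  simp only [Matrix.mul_apply, outer_apply, Finset.mul_sum, Finset.sum_mul, mul_assoc]

theorem outer_add (a : ι → R2) (A B : R2) (b : ι → R2) : outer a (A + B) b = outer a A b + outer a B b := by
  ext1 i j
  simp [outer_apply, mul_add, add_mul]

theorem outer_zero (a b : ι → R2) : outer a (0 : R2) b = 0 := by
  ext1 i j
  simp [outer_apply]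

theorem mul_outer (X : BM) (a : ι → R2) (A : R2) (b : ι → R2) : X * outer a A b = outer (X *ᵥ a) A b := by
  ext1 i j
  simp only [Matrix.mul_apply, outer_apply, Matrix.mulVec, dotProduct, Finset.sum_mul, mul_assoc]

theorem outer_mul_adjT (X : BM) (a : ι → R2) (A : R2) (b : ι → R2) :
    outer a A (fun k => (b k).adjugate) * adjT X = outer a A (fun k => ((X *ᵥ b) k).adjugate) := by
  ext1 i j
  simp only [Matrix.mul_apply, outer_apply, adjT_apply, Matrix.mulVec, dotProduct, adj_sum,
    Matrix.adjugate_mul_distrib, Finset.mul_sum, mul_assoc]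

/-- `∑ c̄ c = 1`. -/
def IsU (c : ι → R2) : Prop := ∑ k, (c k).adjugate * c k = 1

/-- The inner product. -/
def inner' (c d : ι → R2) : R2 := ∑ k, (c k).adjugate * d k

/-- The matrix `1 + c (x - 1) c̄`. -/
def plMat (c : ι → R2) (x : R2) : BM := 1 + outer c (x - 1) fun k => (c k).adjugate

theorem plMat_mul {c : ι → R2} (hc : IsU c) (x y : R2) : plMat c x * plMat c y = plMat c (x * y) := by
  simp only [plMat, mul_add, add_mul, one_mul, mul_one, outer_mul]
  rw [show ∑ k, (c k).adjugate * c k = 1 from hc, mul_one, add_assoc, ← outer_add, ← outer_add]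
  congr 2
  noncomm_ring

theorem plMat_one (c : ι → R2) : plMat c 1 = 1 := by
  rw [plMat, sub_self, outer_zero, add_zero]

theorem adjT_plMat (c : ι → R2) (x : R2) : adjT (plMat c x) = plMat c x.adjugate := by
  ext1 i j
  rw [adjT_apply]
  simp only [plMat, Matrix.add_apply, outer_apply]
  rw [show ((1 : BM) j i + c j * (x - 1) * (c i).adjugate).adjugate =
    ((1 : BM) j i).adjugate + (c j * (x - 1) * (c i).adjugate).adjugate from map_add adjHom _ _,
    Matrix.adjugate_mul_distrib, Matrix.adjugate_mul_distrib, adj_adj, adj_sub, Matrix.adjugate_one,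
    ← adjT_apply (1 : BM) i j, adjT_one, mul_assoc]

/-- The element acting as `x` on the plane of `c`. -/
def pl (c : ι → R2) (hc : IsU c) : SL2 →* U ι F where
  toFun x := mkU (plMat c x)
    (by rw [adjT_plMat, plMat_mul hc, ← Matrix.SpecialLinearGroup.coe_inv,
      ← Matrix.SpecialLinearGroup.coe_mul, mul_inv_cancel, Matrix.SpecialLinearGroup.coe_one, plMat_one])
    (by rw [adjT_plMat, plMat_mul hc, ← Matrix.SpecialLinearGroup.coe_inv,
      ← Matrix.SpecialLinearGroup.coe_mul, inv_mul_cancel, Matrix.SpecialLinearGroup.coe_one, plMat_one])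
  map_one' := mat_injective (by
    show plMat c ((1 : SL2) : R2) = 1
    rw [Matrix.SpecialLinearGroup.coe_one, plMat_one])
  map_mul' x y := mat_injective (by
    show plMat c ((x * y : SL2) : R2) = plMat c x * plMat c y
    rw [Matrix.SpecialLinearGroup.coe_mul, plMat_mul hc])

theorem mat_pl (c : ι → R2) (hc : IsU c) (x : SL2) : mat (pl c hc x) = plMat c x := rfl

theorem pl_congr {c d : ι → R2} (h : c = d) (hc : IsU c) (hd : IsU d) (x : SL2) : pl c hc x = pl d hd x := by
  subst h; rfl

theorem isU_mulVec (X : U ι F) {c : ι → R2} (hc : IsU c) : IsU (mat X *ᵥ c) := by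
  unfold IsU
  calc ∑ k, ((mat X *ᵥ c) k).adjugate * (mat X *ᵥ c) k
      = ∑ k, ∑ l, ∑ m, (c l).adjugate * ((mat X k l).adjugate * mat X k m) * c m := by
        simp only [Matrix.mulVec, dotProduct, adj_sum, Matrix.adjugate_mul_distrib, Finset.sum_mul,
          Finset.mul_sum, mul_assoc]
        refine Finset.sum_congr rfl fun k _ => ?_
        rw [Finset.sum_comm]
    _ = ∑ l, ∑ m, (c l).adjugate * (adjT (mat X) * mat X) l m * c m := by
        rw [Finset.sum_comm]
        refine Finset.sum_congr rfl fun l _ => ?_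
        rw [Finset.sum_comm]
        refine Finset.sum_congr rfl fun m _ => ?_
        simp only [Matrix.mul_apply, adjT_apply, Finset.mul_sum, Finset.sum_mul]
    _ = 1 := by
        rw [adjT_mul_self]
        simp only [Matrix.one_apply, mul_ite, mul_one, mul_zero, ite_mul, zero_mul, Finset.sum_ite_eq,
          Finset.mem_univ, if_true]
        exact hc

/-- Conjugates of plane elements. -/
theorem conj_pl (X : U ι F) {c : ι → R2} (hc : IsU c) (x : SL2) :
    X * pl c hc x * X⁻¹ = pl (mat X *ᵥ c) (isU_mulVec X hc) x := by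
  apply mat_injective
  rw [mat_mul, mat_mul, mat_inv, mat_pl, mat_pl, plMat, plMat, mul_add, mul_one, add_mul, mul_adjT_self,
    mul_outer, outer_mul_adjT]

/-- The standard unit vectors. -/
def ev (i : ι) : ι → R2 := Pi.single i 1

theorem isU_ev (i : ι) : IsU (ev i : ι → R2) := by
  unfold IsU
  rw [Finset.sum_eq_single i]
  · simp [ev]
  · intro k _ hk
    simp [ev, hk]
  · simp

theorem mulVec_ev (X : BM) (i : ι) (k : ι) : (X *ᵥ ev i) k = X k i := by
  simp [ev, Matrix.mulVec, dotProduct, Pi.single_apply]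

theorem mulVec_mul (X : BM) (c : ι → R2) (r : R2) : X *ᵥ (fun k => c k * r) = fun k => (X *ᵥ c) k * r := by
  funext k
  simp [Matrix.mulVec, dotProduct, Finset.sum_mul, mul_assoc]

theorem dia_single (i : ι) (x : SL2) : (dia (Pi.mulSingle i x) : U ι F) = pl (ev i) (isU_ev i) x := by
  apply mat_injective
  rw [dia_apply, mat_mono, mat_pl]
  ext1 k l
  simp only [monoMat_apply, plMat, Matrix.add_apply, outer_apply, Equiv.Perm.one_apply]
  by_cases h : k = l
  · subst h
    by_cases hk : k = i
    · subst hk; simp [ev]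
    · simp [ev, hk, adj_zero]
  · by_cases hk : k = i
    · have hl : l ≠ i := fun e => h (hk.trans e.symm)
      simp [ev, h, Ne.symm h, hl, adj_zero]
    · simp [ev, h, Ne.symm h, hk]

theorem pl_conj_scale {c : ι → R2} (hc : IsU c) (g x : SL2) (hcg : IsU fun k => c k * (g : R2)) :
    pl (fun k => c k * (g : R2)) hcg x = pl c hc (g * x * g⁻¹) := by
  apply mat_injective
  rw [mat_pl, mat_pl, plMat, plMat]
  congr 1
  ext1 i j
  simp only [outer_apply, Matrix.adjugate_mul_distrib, Matrix.SpecialLinearGroup.coe_mul,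
    Matrix.SpecialLinearGroup.coe_inv, mul_assoc, mul_sub, sub_mul, mul_one, one_mul]
  congr 1
  rw [← mul_assoc (g : R2), Matrix.mul_adjugate, g.2, one_smul, one_mul]

/-- Plane elements of orthogonal planes commute. -/
theorem pl_comm {c d : ι → R2} (hc : IsU c) (hd : IsU d) (h : inner' c d = 0) (x y : SL2) :
    pl c hc x * pl d hd y = pl d hd y * pl c hc x := by
  have h' : inner' d c = 0 := by
    have : (inner' c d).adjugate = inner' d c := by
      simp [inner', adj_sum, Matrix.adjugate_mul_distrib, adj_adj]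
    rw [← this, h, adj_zero]
  apply mat_injective
  rw [mat_mul, mat_mul, mat_pl, mat_pl]
  simp only [plMat, mul_add, add_mul, one_mul, mul_one, outer_mul]
  simp only [inner'] at h h'
  rw [h, h']
  simp only [mul_zero, zero_mul, outer_zero, add_zero]
  abel

theorem pl_negOne_mulVec {c : ι → R2} (hc : IsU c) (d : ι → R2) (k : ι) :
    (mat (pl c hc negOne) *ᵥ d) k = d k - (2 : F) • (c k * inner' c d) := by
  rw [mat_pl, plMat, Matrix.add_mulVec, Matrix.one_mulVec, Pi.add_apply, coe_negOne,
    show (-1 - 1 : R2) = (-(2 : F)) • (1 : R2) by module, sub_eq_add_neg]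
  congr 1
  simp only [Matrix.mulVec, dotProduct, outer_apply, inner', mul_smul_comm, smul_mul_assoc, mul_one,
    Finset.mul_sum, Finset.smul_sum, mul_assoc, neg_smul, Finset.sum_neg_distrib, neg_mul, mul_neg, one_mul]

theorem plMat_negOne_apply (c : ι → R2) (i j : ι) :
    plMat c ((negOne : SL2) : R2) i j = (1 : BM) i j - (2 : F) • (c i * (c j).adjugate) := by
  rw [plMat, coe_negOne, show (-1 - 1 : R2) = (-(2 : F)) • (1 : R2) by module, Matrix.add_apply,
    outer_apply, mul_smul_comm, mul_one, smul_mul_assoc, neg_smul, sub_eq_add_neg]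

theorem sum_det (c : ι → R2) (hc : IsU c) : ∑ k, (c k).det = 1 := by
  have h := congrFun (congrFun hc 0) 0
  simpa [Matrix.adjugate_mul, Matrix.sum_apply] using h

theorem eq_one_of_det {γ : R2} (h : γ.adjugate * γ = 1) : γ.det = 1 := by
  rw [Matrix.adjugate_mul] at h
  simpa using congrFun (congrFun h 0) 0

/-! ### Two by two blocks inside -/

section Pair

variable {k l : ι}

/-- The inclusion of two blocks. -/
def incl (k l : ι) : Matrix ι (Fin 2) R2 := Matrix.of fun i a => if i = ![k, l] a then 1 else 0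

theorem incl_mul (hkl : k ≠ l) :
    (incl k l : Matrix ι (Fin 2) R2)ᵀ * (incl k l : Matrix ι (Fin 2) R2) = 1 := by
  ext1 a b
  rw [Matrix.mul_apply, Finset.sum_eq_single (![k, l] a)]
  · fin_cases a <;> fin_cases b <;> simp [incl, hkl, Ne.symm hkl]
  · intro i _ hi
    simp [incl, hi]
  · simp

/-- A two by two block matrix acting on the blocks `k, l`. -/
def emb2 (k l : ι) (N : Matrix (Fin 2) (Fin 2) R2) : BM :=
  1 + (incl k l : Matrix ι (Fin 2) R2) * (N - 1) * (incl k l : Matrix ι (Fin 2) R2)ᵀ

theorem emb2_mul (hkl : k ≠ l) (N M : Matrix (Fin 2) (Fin 2) R2) :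
    emb2 k l N * emb2 k l M = emb2 k l (N * M) := by
  simp only [emb2]
  set E : Matrix ι (Fin 2) R2 := incl k l with hE
  have e : E * (N - 1) * Eᵀ * (E * (M - 1) * Eᵀ) = E * ((N - 1) * (M - 1)) * Eᵀ := by
    simp only [Matrix.mul_assoc]
    rw [← Matrix.mul_assoc Eᵀ, hE, incl_mul hkl, Matrix.one_mul]
  simp only [mul_add, add_mul, one_mul, mul_one, e]
  rw [add_assoc, ← Matrix.add_mul, ← Matrix.add_mul, ← Matrix.mul_add, ← Matrix.mul_add]
  congr 3
  noncomm_ring

theorem emb2_apply (N : Matrix (Fin 2) (Fin 2) R2) (i j : ι) :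
    emb2 k l N i j = (1 : BM) i j + ∑ b : Fin 2, ∑ a : Fin 2,
      (if i = ![k, l] a then (N - 1) a b else 0) * (if j = ![k, l] b then (1 : R2) else 0) := by
  rw [emb2, Matrix.add_apply, Matrix.mul_apply]
  congr 1
  refine Finset.sum_congr rfl fun b _ => ?_
  rw [Matrix.mul_apply, Finset.sum_mul, Matrix.transpose_apply]
  refine Finset.sum_congr rfl fun a _ => ?_
  simp only [incl, Matrix.of_apply]
  by_cases h : i = ![k, l] a <;> simp [h]

end Pair

end Cfsg.Agent.Lib.SpPronormal50
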