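import Cfsg.Agent.Lib.ZStar.UniqueCase
import Cfsg.Agent.Lib.OddOrder.FeitThompson
import Mathlib

/-!
An element whose conjugates commute with it, modulo a central subgroup of exponent two, whenever they
generate a 2-group with it, is central modulo that subgroup if there are no odd abelian normal subgroups.
-/

set_option autoImplicit false
set_option linter.style.haveILetI false

namespace Cfsg.Agent.Lib.SpPronormal50

universe u

/-- `Z*` with the odd order theorem, modulo a central subgroup of exponent two. -/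
theorem central_mod {Y : Type u} [Group Y] [Finite Y] (C : Subgroup Y) (hC : C ≤ Subgroup.center Y)
    (hC2 : ∀ c ∈ C, c * c = 1) (t : Y) (htt : t * t ∈ C) (ht : t ∉ C)
    (hiso : ∀ g : Y, IsPGroup 2 (Subgroup.closure ({t, g * t * g⁻¹} : Set Y)) → g * t * g⁻¹ * t⁻¹ ∈ C)
    (hab : ∀ A : Subgroup Y, A.Normal → (∀ a ∈ A, ∀ b ∈ A, a * b = b * a) → Odd (Nat.card A) → A = ⊥)
    (g : Y) : g * t * g⁻¹ * t⁻¹ ∈ C := by
  classical
  haveI : Fact (Nat.Prime 2) := ⟨Nat.prime_two⟩
  haveI hCn : C.Normal := ⟨fun c hc y => by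
    rw [Subgroup.mem_center_iff.1 (hC hc) y, mul_inv_cancel_right]; exact hc⟩
  let π := QuotientGroup.mk' C
  have hπ1 : ∀ y, π y = 1 ↔ y ∈ C := fun y => QuotientGroup.eq_one_iff y
  have ho : orderOf (π t) = 2 := by
    refine orderOf_eq_prime ?_ (fun h => ht ((hπ1 t).1 h))
    rw [pow_two, ← map_mul, hπ1]
    exact htt
  have hz2 : IsPGroup 2 (Subgroup.zpowers (π t)) :=
    IsPGroup.of_card (n := 1) (by rw [Nat.card_zpowers, ho, pow_one])
  obtain ⟨P, hP⟩ := hz2.exists_le_sylow
  have htP : π t ∈ P := hP (Subgroup.mem_zpowers _)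
  have hiso' : ∀ gb, gb * π t * gb⁻¹ ∈ P → gb * π t * gb⁻¹ = π t := by
    intro gb hg
    obtain ⟨y, rfl⟩ := QuotientGroup.mk'_surjective C gb
    have hmem : π (y * t * y⁻¹) ∈ P := by rw [map_mul, map_mul, map_inv]; exact hg
    have hp : IsPGroup 2 (Subgroup.closure ({t, y * t * y⁻¹} : Set Y)) := by
      have hle : Subgroup.closure ({t, y * t * y⁻¹} : Set Y) ≤ (P : Subgroup _).comap π := by
        rw [Subgroup.closure_le]
        rintro z (rfl | rfl)
        · exact htP
        · exact hmem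
      rintro ⟨z, hz⟩
      obtain ⟨k, hk⟩ := P.isPGroup' ⟨π z, hle hz⟩
      refine ⟨k + 1, Subtype.ext ?_⟩
      have hk' : z ^ 2 ^ k ∈ C := (hπ1 _).1 (by
        rw [map_pow]; exact congrArg Subtype.val hk)
      show z ^ 2 ^ (k + 1) = 1
      rw [pow_succ, pow_mul, pow_two]
      exact hC2 _ hk'
    have h1 := (hπ1 _).2 (hiso y hp)
    simp only [map_mul, map_inv] at h1
    exact mul_inv_eq_one.1 h1
  obtain ⟨N, hN, hodd, hmem⟩ := Cfsg.Agent.Lib.ZStar.UniqueCase.zstar P (π t) ho htP hiso'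
  -- `N` is trivial
  have hNbot : N = ⊥ := by
    by_contra hne
    haveI := hN
    haveI : Group.IsSolvable N := Cfsg.Agent.Lib.OddOrder.FeitThompson.isSolvable_of_odd_card hodd
    obtain ⟨l, hl⟩ := (Group.isSolvable_def N).1 ‹_›
    have hex : ∃ l, derivedSeries N l = ⊥ := ⟨l, hl⟩
    obtain ⟨k, hk⟩ : ∃ k, Nat.find hex = k + 1 := by
      refine ⟨Nat.find hex - 1, ?_⟩
      have : Nat.find hex ≠ 0 := by
        intro h0
        have h1 := Nat.find_spec hex
        rw [h0, derivedSeries_zero] at h1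
        refine hne (Subgroup.card_eq_one.1 ?_)
        rw [← Subgroup.card_top, h1, Subgroup.card_bot]
      omega
    have hkne : derivedSeries N k ≠ ⊥ := Nat.find_min hex (by omega)
    have hkbot : derivedSeries N (k + 1) = ⊥ := hk ▸ Nat.find_spec hex
    let M := (derivedSeries N k).map N.subtype
    haveI hMn : M.Normal := inferInstance
    have hMc : ∀ a ∈ M, ∀ b ∈ M, a * b = b * a := by
      rintro _ ⟨a, ha, rfl⟩ _ ⟨b, hb, rfl⟩
      have h1 := Subgroup.commutator_mem_commutator ha hb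
      rw [← derivedSeries_succ, hkbot, Subgroup.mem_bot, commutatorElement_def] at h1
      rw [← map_mul, ← map_mul]
      congr 1
      rw [← mul_inv_eq_one, mul_inv_rev, ← mul_assoc]
      exact h1
    have hMN : M ≤ N := Subgroup.map_subtype_le _
    have hModd : Odd (Nat.card M) := hodd.of_dvd_nat (Subgroup.card_dvd_of_le hMN)
    -- the preimage is abelian
    let M' := M.comap π
    set m := Nat.card M with hm
    have hpowC : ∀ y ∈ M', y ^ m ∈ C := fun y hy => (hπ1 _).1 (by
      rw [map_pow]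
      exact congrArg Subtype.val (pow_card_eq_one' (G := M) (x := ⟨π y, hy⟩)))
    have hcomm : ∀ a ∈ M', ∀ b ∈ M', a * b = b * a := by
      intro a ha b hb
      obtain ⟨c, hc⟩ : ∃ c, c = a * b * a⁻¹ * b⁻¹ := ⟨_, rfl⟩
      have hcC : c ∈ C := (hπ1 _).1 (by
        rw [hc, map_mul, map_mul, map_mul, map_inv, map_inv, hMc _ ha _ hb]; group)
      have hcc : ∀ y, y * c = c * y := fun y => Subgroup.mem_center_iff.1 (hC hcC) y
      have hab' : a * b * a⁻¹ = c * b := by rw [hc]; group
      have h2 : ∀ i : ℕ, a ^ i * b * (a ^ i)⁻¹ = c ^ i * b := by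
        intro i
        induction i with
        | zero => simp
        | succ i ih =>
          calc a ^ (i + 1) * b * (a ^ (i + 1))⁻¹ = a * (a ^ i * b * (a ^ i)⁻¹) * a⁻¹ := by
                rw [pow_succ']; group
            _ = a * c ^ i * b * a⁻¹ := by rw [ih]; group
            _ = c ^ i * (a * b * a⁻¹) := by
                rw [((show Commute a c from hcc a).pow_right i).eq]; group
            _ = c ^ (i + 1) * b := by rw [hab', pow_succ, mul_assoc]
      have h3 := h2 m
      rw [show a ^ m * b * (a ^ m)⁻¹ = b by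
        rw [← Subgroup.mem_center_iff.1 (hC (hpowC a ha)) b, mul_inv_cancel_right]] at h3
      have h4 : c ^ m = 1 := right_eq_mul.1 h3
      clear h3 h2
      have h5 : c = 1 := by
        obtain ⟨j, hj⟩ := hModd
        rw [hj, pow_succ, pow_mul, pow_two, hC2 c hcC, one_pow, one_mul] at h4
        exact h4
      rw [hc, mul_inv_eq_one, mul_inv_eq_iff_eq_mul] at h5
      exact h5
    let A : Subgroup Y :=
      { carrier := {y | y ∈ M' ∧ y ^ m = 1}
        one_mem' := ⟨one_mem _, one_pow _⟩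
        mul_mem' := fun {a b} ha hb => ⟨mul_mem ha.1 hb.1, by
          rw [(show Commute a b from hcomm a ha.1 b hb.1).mul_pow, ha.2, hb.2, one_mul]⟩
        inv_mem' := fun {a} ha => ⟨inv_mem ha.1, by rw [inv_pow, ha.2, inv_one]⟩ }
    have hA : A = ⊥ := by
      refine hab A ⟨fun a ha y => ⟨?_, ?_⟩⟩ (fun a ha b hb => hcomm a ha.1 b hb.1) ?_
      · show π (y * a * y⁻¹) ∈ M
        rw [map_mul, map_mul, map_inv]
        exact hMn.conj_mem _ ha.1 _
      · rw [conj_pow, ha.2, mul_one, mul_inv_cancel]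
      · rw [← Nat.not_even_iff_odd, even_iff_two_dvd]
        intro h
        obtain ⟨⟨a, ha⟩, hoa⟩ := exists_prime_orderOf_dvd_card' 2 h
        rw [Subgroup.orderOf_mk] at hoa
        have : 2 ∣ m := hoa ▸ orderOf_dvd_of_pow_eq_one ha.2
        exact (Nat.not_even_iff_odd.2 hModd) (even_iff_two_dvd.2 this)
    refine hkne (Subgroup.map_eq_bot_iff_of_injective _ N.subtype_injective |>.1 ?_)
    show M = ⊥
    rw [Subgroup.eq_bot_iff_forall]
    intro yb hyb
    obtain ⟨y, rfl⟩ := QuotientGroup.mk'_surjective C yb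
    have hy2 : y * y = 1 := by
      have : y * y ∈ A := ⟨mul_mem hyb hyb, by
        rw [(Commute.refl y).mul_pow, hC2 _ (hpowC y hyb)]⟩
      rwa [hA, Subgroup.mem_bot] at this
    have h2 : (π y) ^ 2 = 1 := by rw [pow_two, ← map_mul, hy2, map_one]
    have h3 : (π y) ^ m = 1 := congrArg Subtype.val (pow_card_eq_one' (G := M) (x := ⟨π y, hyb⟩))
    obtain ⟨j, hj⟩ := hModd
    rw [hj, pow_succ, pow_mul, h2, one_pow, one_mul] at h3
    exact h3
  have h := hmem (π g)
  rw [hNbot, Subgroup.mem_bot] at h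
  refine (hπ1 _).1 ?_
  simp only [map_mul, map_inv]
  have h' := mul_inv_eq_iff_eq_mul.1 (mul_inv_eq_one.1 h)
  rw [← h']
  group

end Cfsg.Agent.Lib.SpPronormal50
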