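import Cfsg.Agent.Lib.SpPronormal50.Block
import Cfsg.Agent.Lib.SylowOrth52.SympLinear
import Mathlib

/-!
The block form of the symplectic group agrees with the usual one.
-/

set_option autoImplicit false
set_option linter.unusedSectionVars false

namespace Cfsg.Agent.Lib.SpPronormal50

open Matrix Cfsg.Agent.Lib.SylowOrth52

universe v

variable {F : Type v} [Field F] [Fintype F] {n : ℕ}

local notation "R2" => Matrix (Fin 2) (Fin 2) F

/-- The coordinates of the blocks, block first. -/
def blkPos (n : ℕ) : Fin n ⊕ Fin n ≃ Fin n × Fin 2 := (blkIdx n).trans (Equiv.prodComm _ _)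

/-- Reading a matrix of blocks as a matrix. -/
def flat : Matrix (Fin n) (Fin n) R2 ≃+* Matrix (Fin n ⊕ Fin n) (Fin n ⊕ Fin n) F :=
  (Matrix.compRingEquiv (Fin n) (Fin 2) F).trans
    (Matrix.reindexAlgEquiv F F (blkPos n).symm).toRingEquiv

theorem flat_apply (X : Matrix (Fin n) (Fin n) R2) (x y : Fin n ⊕ Fin n) :
    flat X x y = X (blkPos n x).1 (blkPos n y).1 (blkPos n x).2 (blkPos n y).2 := rfl

theorem dblock_eq_flat (g : Fin n → R2) : dblock g = flat (Matrix.diagonal g) := by
  ext x y
  rw [flat_apply, dblock_apply]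
  show _ = Matrix.diagonal g (blkIdx n x).2 (blkIdx n y).2 (blkIdx n x).1 (blkIdx n y).1
  by_cases h : (blkIdx n x).2 = (blkIdx n y).2
  · rw [if_pos h, ← h, Matrix.diagonal_apply_eq]
  · rw [if_neg h, Matrix.diagonal_apply_ne _ h, Matrix.zero_apply]

theorem jPl_adj (M : R2) : jPl F * Mᵀ * jPl F = -M.adjugate := by
  ext i j
  fin_cases i <;> fin_cases j <;>
    simp [jPl, Matrix.mul_apply, Fin.sum_univ_two, Matrix.adjugate_fin_two, Matrix.vecMul, dotProduct]

theorem flat_adjT (X : Matrix (Fin n) (Fin n) R2) :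
    flat (adjT X) = -(Matrix.J (Fin n) F * (flat X)ᵀ * Matrix.J (Fin n) F) := by
  have ht : (flat X)ᵀ = flat (Matrix.of fun i j => (X j i)ᵀ) := by
    ext x y
    rw [Matrix.transpose_apply, flat_apply, flat_apply]
    rfl
  rw [J_eq_dblock, dblock_eq_flat, ht, ← map_mul, ← map_mul, ← map_neg]
  congr 1
  ext1 i j
  rw [adjT_apply, Matrix.neg_apply, Matrix.mul_diagonal, Matrix.diagonal_mul]
  show _ = -(jPl F * (X j i)ᵀ * jPl F)
  rw [jPl_adj, neg_neg]

theorem mem_iff (X : Matrix (Fin n) (Fin n) R2) :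
    flat X ∈ Matrix.symplecticGroup (Fin n) F ↔ X * adjT X = 1 := by
  rw [SymplecticGroup.mem_iff, ← (flat (F := F) (n := n)).injective.eq_iff, map_mul, map_one, flat_adjT]
  set A := flat X
  constructor
  · intro h
    rw [mul_neg, ← mul_assoc, ← mul_assoc, h, Matrix.J_squared, neg_neg]
  · intro h
    rw [mul_neg, ← mul_assoc, ← mul_assoc] at h
    have h1 := congrArg (· * Matrix.J (Fin n) F) h
    simp only [neg_mul, one_mul, mul_assoc, Matrix.J_squared, mul_neg, mul_one, neg_neg] at h1
    exact (mul_assoc _ _ _).trans h1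

/-- The block form of the symplectic group. -/
def uEquiv : U (Fin n) F ≃* Matrix.symplecticGroup (Fin n) F where
  toFun X := ⟨flat (mat X), (mem_iff _).2 (mul_adjT_self X)⟩
  invFun A := mkU (flat.symm A.1)
    ((mem_iff _).1 (by rw [RingEquiv.apply_symm_apply]; exact A.2))
    (mul_eq_one_symm ((mem_iff _).1 (by rw [RingEquiv.apply_symm_apply]; exact A.2)))
  left_inv X := mat_injective (RingEquiv.symm_apply_apply _ _)
  right_inv A := Subtype.ext (RingEquiv.apply_symm_apply _ _)
  map_mul' X Y := Subtype.ext (map_mul flat (mat X) (mat Y))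

end Cfsg.Agent.Lib.SpPronormal50
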