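import Cfsg.Agent.Lib.SpPronormal50.Overgroup
import Cfsg.Agent.Lib.SpPronormal50.Iso
import Cfsg.Agent.Lib.SylowDerived52.Basic
import Cfsg.Agent.Lib.SymSylow.Alternating
import Cfsg.Agent.Lib.Perm.Modules
import Cfsg.Agent.Lib.Symplectic.Std
import Cfsg.Prelude.Def_Classical
import Mathlib

/-!
A Sylow 2-subgroup of `PSp(2^(k+1), q)`, `q` odd, satisfies the criterion.
-/

set_option autoImplicit false
set_option linter.unusedSectionVars false
set_option linter.style.haveILetI false

namespace Cfsg.Agent.Lib.SpPronormal50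

open Matrix Cfsg.Agent.Lib.PSLTwo.Sylow Cfsg.Agent.Lib.FusionPSp4 Cfsg.Agent.Lib.SylowOrth52

universe v

variable {F : Type v} [Field F] [Fintype F]

local notation "SL2" => Matrix.SpecialLinearGroup (Fin 2) F

/-- The criterion in the symplectic group. -/
theorem exists_good_symplectic (hF : Odd (Fintype.card F)) {n k : ℕ} (hn : n = 2 ^ k) :
    ∃ P : Sylow 2 (Matrix.symplecticGroup (Fin n) F),
      Good (P : Subgroup (Matrix.symplecticGroup (Fin n) F)) := by
  classical
  haveI : Fact (Nat.Prime 2) := ⟨Nat.prime_two⟩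
  haveI : Fintype (U (Fin n) F) := Fintype.ofFinite _
  have hq := Nat.odd_iff.1 hF
  have h1 : 1 < Fintype.card F := Fintype.one_lt_card
  haveI : Nonempty (Fin n) := ⟨⟨0, by rw [hn]; positivity⟩⟩
  obtain ⟨Q, hnc⟩ := exists_noncommuting_sylow (F := F) hq
  obtain ⟨T0⟩ : Nonempty (Sylow 2 (Equiv.Perm (Fin n))) := inferInstance
  set T : Subgroup (Equiv.Perm (Fin n)) := T0.toSubgroup with hT
  have hTc : Nat.card T = 2 ^ (Nat.factorial n).factorization 2 := by
    rw [hT, T0.card_eq_multiplicity, Nat.card_perm, Nat.card_fin]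
  have hTN : Subgroup.normalizer (T : Set (Equiv.Perm (Fin n))) ≤ T :=
    (Cfsg.Agent.Lib.SymSylow.Alternating.perm_sylow_normalizer n T0).le
  have htr : ∀ i j : Fin n, ∃ t ∈ T, t i = j := by
    haveI : MulAction.IsPretransitive (Equiv.Perm (Fin n)) (Fin n) :=
      ⟨fun a b => ⟨Equiv.swap a b, Equiv.swap_apply_left a b⟩⟩
    haveI := Cfsg.Agent.Lib.Perm.Modules.sylow_isPretransitive (p := 2) (f := k)
      (Ω := Fin n) (by rw [Nat.card_fin, hn]) T0
    intro i j
    obtain ⟨t, ht⟩ := MulAction.exists_smul_eq (T0 : Subgroup (Equiv.Perm (Fin n))) i j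
    exact ⟨t, t.2, ht⟩
  have hcard : Nat.card (mS (ι := Fin n) (Q : Subgroup SL2) T) =
      2 ^ (Nat.card (U (Fin n) F)).factorization 2 := by
    rw [Nat.card_congr (uEquiv (F := F) (n := n)).toEquiv, card_mS, Q.card_eq_multiplicity, hTc,
      Fintype.card_fin, ← pow_mul, ← pow_add,
      Cfsg.Agent.Lib.Symplectic.card_sp Nat.card_eq_fintype_card n,
      v2_mul (pow_ne_zero _ (by omega)) (prod_pow_ne_zero h1 n), v2_pow_odd hq, zero_add, v2_prod h1 hq,
      v2_card_SL_two hq, mul_comm (tq _)]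
  let P : Sylow 2 (U (Fin n) F) := Sylow.ofCard (mS (Q : Subgroup SL2) T) hcard
  have hP : (P : Subgroup (U (Fin n) F)) = mS (Q : Subgroup SL2) T := rfl
  have hgood : Good (P : Subgroup (U (Fin n) F)) := by
    rw [hP]
    rcases self_or_quat hq Q hnc with h | ⟨⟨qd⟩⟩
    · exact good_of_normalizer_le fun g hg => mem_mS_of_self hq Q hnc h T hTN htr hg
    · exact good_mS hq Q qd T (IsPGroup.of_card hTc) hTN htr P hP
  have hsurj : Function.Surjective (uEquiv (F := F) (n := n)).toMonoidHom := (uEquiv (F := F) (n := n)).surjective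
  refine ⟨P.mapSurjective hsurj, ?_⟩
  rw [Sylow.coe_mapSurjective]
  exact good_map _ hsurj
    (by rw [(MonoidHom.ker_eq_bot_iff (uEquiv (F := F) (n := n)).toMonoidHom).2 (uEquiv (F := F) (n := n)).injective]; exact bot_le) hgood

/-- The criterion in the projective symplectic group. -/
theorem exists_good_psp (hF : Odd (Fintype.card F)) {n k : ℕ} (hn : n = 2 ^ k) :
    ∃ P : Sylow 2 (Cfsg.PSp n F), Good (P : Subgroup (Cfsg.PSp n F)) := by
  classical
  haveI : Fact (Nat.Prime 2) := ⟨Nat.prime_two⟩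
  obtain ⟨P, hP⟩ := exists_good_symplectic hF hn
  set Z := Subgroup.center (Matrix.symplecticGroup (Fin n) F) with hZ
  have hc : Nat.card Z = 2 := by
    have hn1 : 1 ≤ n := by rw [hn]; exact Nat.one_le_two_pow
    rw [hZ, Cfsg.Agent.Lib.Symplectic.card_center_sp Nat.card_eq_fintype_card hn1]
    obtain ⟨j, hj⟩ := hF
    rw [hj, Nat.add_sub_cancel]
    exact Nat.gcd_eq_left (Dvd.intro j rfl)
  have hker : (QuotientGroup.mk' Z).ker ≤ (P : Subgroup (Matrix.symplecticGroup (Fin n) F)) := by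
    rw [QuotientGroup.ker_mk']
    intro z hz
    refine mem_sylow_of_normalizes P.isPGroup' (fun _ hU hle => P.is_maximal' hU hle) (k := 1) ?_
      (fun y hy => ?_)
    · have := congrArg Subtype.val (pow_card_eq_one' (G := Z) (x := ⟨z, hz⟩))
      rw [hc] at this
      exact this
    · rw [← Subgroup.mem_center_iff.1 hz y, mul_inv_cancel_right]; exact hy
  refine ⟨P.mapSurjective (QuotientGroup.mk'_surjective Z), ?_⟩
  rw [Sylow.coe_mapSurjective]
  exact good_map _ (QuotientGroup.mk'_surjective Z) hker hP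

end Cfsg.Agent.Lib.SpPronormal50
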