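import Cfsg.Agent.Lib.SpPronormal50.Plane
import Mathlib

/-!
The entries of such an overgroup are zero or of determinant one, and it is block monomial.
-/

set_option autoImplicit false
set_option linter.unusedSectionVars false
set_option linter.style.haveILetI false

namespace Cfsg.Agent.Lib.SpPronormal50

open Matrix Cfsg.Agent.Lib.PSLTwo.Sylow Cfsg.Agent.Lib.FusionPSp4

universe v

variable {F : Type v} [Field F] [Fintype F] {ι : Type} [Fintype ι] [DecidableEq ι]

local notation "R2" => Matrix (Fin 2) (Fin 2) F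
local notation "SL2" => Matrix.SpecialLinearGroup (Fin 2) F

theorem exists_scale (d : F) (hd : d ≠ 0) :
    ∃ g : R2, g.det = d⁻¹ ∧ g.adjugate * (d • (1 : R2)) * g = 1 := by
  refine ⟨!![d⁻¹, 0; 0, 1], by simp [Matrix.det_fin_two_of], ?_⟩
  rw [mul_smul_comm, mul_one, smul_mul_assoc, Matrix.adjugate_mul, smul_smul]
  simp [Matrix.det_fin_two_of, hd]

theorem isPGroup_closure_pair {G : Type*} [Group G] [Finite G] {a b : G} (ha : a * a = 1)
    (hb : b * b = 1) (hab : (a * b) ^ 4 = 1) :
    IsPGroup 2 (Subgroup.closure ({a, b} : Set G)) := by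
  haveI : Fact (Nat.Prime 2) := ⟨Nat.prime_two⟩
  have hK : IsPGroup 2 (Subgroup.zpowers (a * b)) := by
    have h := orderOf_dvd_of_pow_eq_one hab
    obtain ⟨j, -, hj⟩ := (Nat.dvd_prime_pow Nat.prime_two).1 (show orderOf (a * b) ∣ 2 ^ 2 from h)
    exact IsPGroup.of_card (n := j) (by rw [Nat.card_zpowers, hj])
  have hA : IsPGroup 2 (Subgroup.zpowers a) := by
    have h := orderOf_dvd_of_pow_eq_one (show a ^ 2 = 1 by rw [pow_two, ha])
    obtain ⟨j, -, hj⟩ := (Nat.dvd_prime_pow Nat.prime_two).1 (show orderOf a ∣ 2 ^ 1 from h)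
    exact IsPGroup.of_card (n := j) (by rw [Nat.card_zpowers, hj])
  have hnorm : Subgroup.zpowers a ≤ Subgroup.normalizer ((Subgroup.zpowers (a * b) : Subgroup G) : Set G) := by
    rw [Subgroup.zpowers_le]
    have hai : a⁻¹ = a := inv_eq_of_mul_eq_one_right ha
    have hbi : b⁻¹ = b := inv_eq_of_mul_eq_one_right hb
    have hconj : ∀ n : ℤ, a * (a * b) ^ n * a⁻¹ = (a * b) ^ (-n) := by
      intro n
      rw [← conj_zpow, _root_.zpow_neg, ← _root_.inv_zpow]
      congr 1
      rw [_root_.mul_inv_rev, hai, hbi, ← mul_assoc, ha, one_mul]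
    rw [Subgroup.mem_normalizer_iff]
    intro x
    constructor
    · rintro ⟨n, rfl⟩
      exact ⟨-n, (hconj n).symm⟩
    · rintro ⟨n, hn⟩
      refine ⟨-n, ?_⟩
      have h' : a⁻¹ * (a * b) ^ n * a = x := by
        simp only at hn
        rw [hn]; group
      simp only
      rw [← h', hai, ← hconj n, hai]
  refine (IsPGroup.to_sup_of_normal_right' hA hK hnorm).to_le ?_
  rw [Subgroup.closure_le]
  rintro z (rfl | rfl)
  · exact Subgroup.mem_sup_left (Subgroup.mem_zpowers _)
  · have h1 : a * (a * z) = z := by rw [← mul_assoc, ha, one_mul]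
    have h2 := mul_mem (Subgroup.mem_sup_left (T := Subgroup.zpowers (a * z)) (Subgroup.mem_zpowers a))
      (Subgroup.mem_sup_right (S := Subgroup.zpowers a) (Subgroup.mem_zpowers (a * z)))
    rwa [h1] at h2

variable {Q : Subgroup (Matrix.SpecialLinearGroup (Fin 2) F)}

theorem conj_mem_map_subtype {G : Type*} [Group G] {Y : Subgroup G} {A : Subgroup Y} (hA : A.Normal)
    {y a : G} (hy : y ∈ Y) (ha : a ∈ A.map Y.subtype) : y * a * y⁻¹ ∈ A.map Y.subtype := by
  obtain ⟨b, hb, rfl⟩ := ha
  exact ⟨⟨y, hy⟩ * b * ⟨y, hy⟩⁻¹, hA.conj_mem b hb _, rfl⟩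

/-- There are no odd abelian normal subgroups. -/
theorem abelian_trivial (qd : Quat Q) (hQ2 : IsPGroup 2 Q) (h2 : (2 : F) ≠ 0) (H : Subgroup (U ι F))
    (hHQ : ∀ i, ∀ x : SL2, plE i x ∈ H → x ∈ Q) {h : U ι F} (hh : h ∈ H) (i j : ι)
    {Y : Subgroup (U ι F)} (hYH : Y ≤ H) (hYi : ∀ x ∈ Q, plE i x ∈ Y)
    (hYj : ∀ x ∈ Q, h * plE j x * h⁻¹ ∈ Y)
    (hdec : ∀ g ∈ Y, mat g *ᵥ ev i = ev i → mat g *ᵥ (mat h *ᵥ ev j) = mat h *ᵥ ev j → g = 1)
    (A : Subgroup Y) (hA : A.Normal) (hAc : ∀ a ∈ A, ∀ b ∈ A, a * b = b * a)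
    (hAodd : Odd (Nat.card A)) : A = ⊥ := by
  rw [Subgroup.eq_bot_iff_forall]
  rintro ⟨g, hg⟩ hgA
  set A' := A.map Y.subtype with hA'
  have hA'Y : A' ≤ Y := Subgroup.map_subtype_le _
  have hA'c : ∀ a ∈ A', ∀ b ∈ A', a * b = b * a := by
    rintro _ ⟨a, ha, rfl⟩ _ ⟨b, hb, rfl⟩
    rw [← map_mul, ← map_mul, hAc a ha b hb]
  have hA'odd : Odd (Nat.card A') := by
    rw [Subgroup.card_map_of_injective Y.subtype_injective]; exact hAodd
  have hA'n : ∀ y ∈ Y, ∀ a ∈ A', y * a * y⁻¹ ∈ A' := by
    exact fun y hy a ha => conj_mem_map_subtype hA hy ha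
  have hgA' : g ∈ A' := ⟨⟨g, hg⟩, hgA, rfl⟩
  have he : mat g *ᵥ ev i = ev i :=
    fix_ev qd hQ2 h2 H A' (hA'Y.trans hYH) hA'c hA'odd i (hHQ i)
      (fun x hx a ha => hA'n _ (hYi x hx) a ha) hgA'
  set c := mat h *ᵥ ev j with hc
  have hg' : h⁻¹ * g * h ∈ A'.map (MulAut.conj h⁻¹).toMonoidHom :=
    Subgroup.mem_map.2 ⟨g, hgA', by simp [mul_assoc]⟩
  have h1 : mat (h⁻¹ * g * h) *ᵥ ev j = ev j := by
    refine fix_ev qd hQ2 h2 H (A'.map (MulAut.conj h⁻¹).toMonoidHom) ?_ ?_ ?_ j (hHQ j) ?_ hg'
    · rintro _ ⟨a, ha, rfl⟩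
      simp only [MulEquiv.coe_toMonoidHom, MulAut.conj_apply, inv_inv]
      exact mul_mem (mul_mem (inv_mem hh) (hYH (hA'Y ha))) hh
    · rintro _ ⟨a, ha, rfl⟩ _ ⟨b, hb, rfl⟩
      rw [← map_mul, ← map_mul, hA'c a ha b hb]
    · rw [Subgroup.card_map_of_injective (f := (MulAut.conj h⁻¹).toMonoidHom)
        (MulAut.conj h⁻¹).injective]
      exact hA'odd
    · rintro x hx _ ⟨a, ha, rfl⟩
      refine Subgroup.mem_map.2 ⟨h * plE j x * h⁻¹ * a * (h * plE j x * h⁻¹)⁻¹,
        hA'n _ (hYj x hx) a ha, ?_⟩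
      simp only [MulEquiv.coe_toMonoidHom, MulAut.conj_apply, inv_inv, _root_.mul_inv_rev, mul_assoc,
        inv_mul_cancel_left]
      simp
  have h3 := congrArg (fun v => mat h *ᵥ v) h1
  simp only [← mat_mulVec_mul] at h3
  rw [← mul_assoc, ← mul_assoc, mul_inv_cancel, one_mul, mat_mulVec_mul] at h3
  exact Subtype.ext (hdec g hg he h3)

/-- Every block entry is zero or of determinant one. -/
theorem entry_cases (qd : Quat Q) (hQ2 : IsPGroup 2 Q) (h2 : (2 : F) ≠ 0) (H : Subgroup (U ι F))
    (hQH : ∀ i, ∀ x ∈ Q, plE i x ∈ H) (hHQ : ∀ i, ∀ x : SL2, plE i x ∈ H → x ∈ Q)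
    (hcomm : ∀ i j, ∀ h ∈ H,
      IsPGroup 2 (Subgroup.closure ({plE i negOne, h * plE j negOne * h⁻¹} : Set (U ι F))) →
        (plE i negOne : U ι F) * (h * plE j negOne * h⁻¹) = h * plE j negOne * h⁻¹ * plE i negOne)
    {h : U ι F} (hh : h ∈ H) (i j : ι) : mat h i j = 0 ∨ (mat h i j).det = 1 := by
  classical
  haveI : Fintype (U ι F) := Fintype.ofFinite _
  haveI : Fact (Nat.Prime 2) := ⟨Nat.prime_two⟩
  by_cases hd1 : (mat h i j).det = 1
  · exact Or.inr hd1
  left
  set c := mat h *ᵥ ev j with hc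
  have hcU : IsU c := isU_mulVec h (isU_ev j)
  have hci : c i = mat h i j := mulVec_ev _ _ _
  rw [← hci] at hd1 ⊢
  set d := (c i).det with hd
  -- the second vector
  set c' : ι → R2 := fun k => if k = i then 0 else c k with hc'
  obtain ⟨g0, hg0, hg0'⟩ := exists_scale (1 - d) (sub_ne_zero.2 (Ne.symm hd1))
  have hc'c : ∀ x : ι → R2, inner' c' x = inner' c x - (c i).adjugate * x i := by
    intro x
    unfold inner'
    rw [eq_sub_iff_add_eq, ← Finset.sum_erase_add _ _ (Finset.mem_univ i),
      ← Finset.sum_erase_add _ _ (Finset.mem_univ i), show c' i = 0 from if_pos rfl, adj_zero, zero_mul,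
      add_zero]
    congr 1
    refine Finset.sum_congr rfl fun k hk => ?_
    rw [show c' k = c k from if_neg (Finset.ne_of_mem_erase hk)]
  have hcc : inner' c' c = (1 - d) • (1 : R2) := by
    rw [hc'c, show inner' c c = 1 from hcU, Matrix.adjugate_mul, sub_smul, one_smul]
  set f := vscale c' g0 with hf
  have hfi : f i = 0 := by rw [hf, vscale_apply, show c' i = 0 from if_pos rfl, zero_mul]
  have hfk : ∀ k, k ≠ i → f k = c k * g0 := fun k hk => by
    rw [hf, vscale_apply, show c' k = c k from if_neg hk]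
  have hfc : inner' f c = g0.adjugate * ((1 - d) • (1 : R2)) := by rw [hf, inner'_vscale_left, hcc]
  have hfU : IsU f := by
    show inner' f f = 1
    rw [hf, inner'_vscale_left, inner'_vscale_right]
    have : inner' c' c' = (1 - d) • (1 : R2) := by
      rw [hc'c, show c' i = 0 from if_pos rfl, mul_zero, sub_zero, ← inner'_adj, hcc,
        Matrix.adjugate_fin_two]
      ext a b; fin_cases a <;> fin_cases b <;> simp
    rw [this, ← mul_assoc]
    exact hg0'
  have hef : inner' (ev i) f = 0 := by rw [inner'_ev_left, hfi]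
  set Zi : U ι F := plE i negOne with hZi
  set Pf : U ι F := pl f hfU negOne with hPf
  set w : U ι F := Zi * Pf with hw
  have hnn : ((negOne : SL2))⁻¹ = negOne := inv_eq_of_mul_eq_one_right negOne_sq
  have hwv : ∀ (x : ι → R2) (k : ι), (mat w *ᵥ x) k =
      if k = i then -(x i) else x k - (2 : F) • (f k * inner' f x) := by
    intro x k
    rw [hw, mat_mulVec_mul, hZi, plE, pl_negOne_mulVec, inner'_ev_left, hPf, pl_negOne_mulVec,
      pl_negOne_mulVec, hfi, zero_mul, smul_zero, sub_zero]
    by_cases hk : k = i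
    · subst hk
      rw [if_pos rfl, hfi, zero_mul, smul_zero, sub_zero]
      simp only [ev, Pi.single_eq_same, one_mul]
      rw [two_smul]; abel
    · rw [if_neg hk]
      simp [ev, hk]
  have hwe : mat w *ᵥ ev i = -(ev i) := by
    funext k
    rw [hwv, inner'_ev_right, hfi, adj_zero, mul_zero, smul_zero, sub_zero]
    by_cases hk : k = i <;> simp [ev, hk]
  have hwc : mat w *ᵥ c = -c := by
    funext k
    rw [hwv]
    by_cases hk : k = i
    · rw [if_pos hk, Pi.neg_apply, hk]
    · rw [if_neg hk, Pi.neg_apply, hfc, hfk k hk]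
      have : c k * g0 * (g0.adjugate * ((1 - d) • (1 : R2))) = c k := by
        rw [mul_assoc, ← mul_assoc g0, Matrix.mul_adjugate, smul_mul_assoc, one_mul, smul_smul, hg0,
          inv_mul_cancel₀ (sub_ne_zero.2 (Ne.symm hd1)), one_smul, mul_one]
      rw [this, two_smul]; abel
  have hww : w * w = 1 := by
    have hcm : Pf * Zi = Zi * Pf := (pl_comm (isU_ev i) hfU hef negOne negOne).symm
    rw [hw, mul_assoc, ← mul_assoc Pf, hcm, mul_assoc Zi Pf, ← mul_assoc, hZi, hPf, ← map_mul,
      ← map_mul, negOne_sq, map_one, map_one, mul_one]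
  have hwinv : w⁻¹ = w := inv_eq_of_mul_eq_one_right hww
  -- the subgroup
  set s : Set (U ι F) := (fun x => plE i x) '' (Q : Set SL2) ∪ (fun x => pl c hcU x) '' (Q : Set SL2)
    with hs
  set Y := Subgroup.closure s with hY
  have hconjc : ∀ x : SL2, h * plE j x * h⁻¹ = pl c hcU x := fun x => conj_plE h j x
  have hYH : Y ≤ H := by
    rw [hY, Subgroup.closure_le]
    rintro z (⟨x, hx, rfl⟩ | ⟨x, hx, rfl⟩)
    · exact hQH i x hx
    · show pl c hcU x ∈ H
      rw [← hconjc]
      exact mul_mem (mul_mem hh (hQH j x hx)) (inv_mem hh)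
  have hcen : ∀ g ∈ Y, g * w = w * g := by
    have key : ∀ (a : ι → R2) (ha : IsU a) (x : SL2), mat w *ᵥ a = -a → pl a ha x * w = w * pl a ha x := by
      intro a ha x hwa
      have hna : IsU (-a) := by rw [← hwa]; exact isU_mulVec w ha
      have h1 : w * pl a ha x * w⁻¹ = pl a ha x := by
        rw [conj_pl, ← pl_neg ha hna x]
        exact pl_congr hwa _ _ _
      rw [← mul_inv_eq_iff_eq_mul.1 h1]
    intro g hg
    induction hg using Subgroup.closure_induction with
    | mem z hz =>
      rcases hz with ⟨x, -, rfl⟩ | ⟨x, -, rfl⟩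
      · exact key _ _ x hwe
      · exact key _ _ x hwc
    | one => simp
    | mul a b _ _ ha hb => rw [mul_assoc, hb, ← mul_assoc, ha, mul_assoc]
    | inv a _ ha => rw [eq_mul_inv_iff_mul_eq, mul_assoc, ← ha, ← mul_assoc, inv_mul_cancel, one_mul]
  have hperp : ∀ x : ι → R2, x i = 0 → inner' c x = 0 → ∀ g ∈ Y, mat g *ᵥ x = x := by
    intro x hx1 hx2 g hg
    induction hg using Subgroup.closure_induction with
    | mem z hz =>
      rcases hz with ⟨y, -, rfl⟩ | ⟨y, -, rfl⟩
      · exact pl_fix _ _ (by rw [inner'_ev_left, hx1])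
      · exact pl_fix _ _ hx2
    | one => rw [mat_one, Matrix.one_mulVec]
    | mul a b _ _ ha hb => rw [mat_mulVec_mul, hb, ha]
    | inv a _ ha =>
      conv_lhs => rw [← ha, ← mat_mulVec_mul, inv_mul_cancel, mat_one, Matrix.one_mulVec]
  have hdec : ∀ g ∈ Y, mat g *ᵥ ev i = ev i → mat g *ᵥ c = c → g = 1 := by
    intro g hg he hgc
    refine eq_of_mulVec fun x => ?_
    rw [mat_one, Matrix.one_mulVec]
    have hgc' : mat g *ᵥ c' = c' := by
      have e : c' = c - vscale (ev i) (c i) := by
        funext k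
        rw [Pi.sub_apply, vscale_ev]
        by_cases hk : k = i
        · rw [if_pos hk, hk, sub_self]; exact if_pos rfl
        · rw [if_neg hk, sub_zero]; exact if_neg hk
      rw [e, Matrix.mulVec_sub, mulVec_vscale, he, hgc]
    have hgf : mat g *ᵥ f = f := by rw [hf, mulVec_vscale, hgc']
    set x0 := x - vscale (ev i) (x i) - vscale f (inner' f x) with hx0
    have h1 : x0 i = 0 := by
      rw [hx0, Pi.sub_apply, Pi.sub_apply, vscale_ev, if_pos rfl, vscale_apply, hfi, zero_mul, sub_self,
        sub_zero]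
    have h2' : inner' c x0 = 0 := by
      rw [hx0, inner'_sub_right, inner'_sub_right, inner'_vscale_right, inner'_vscale_right,
        inner'_ev_right, ← inner'_adj f c, hfc, Matrix.adjugate_mul_distrib, adj_adj, hf,
        inner'_vscale_left, show ((1 - d) • (1 : R2)).adjugate = (1 - d) • (1 : R2) by
          rw [Matrix.adjugate_fin_two]; ext a b; fin_cases a <;> fin_cases b <;> simp,
        smul_mul_assoc, one_mul, smul_mul_assoc, ← mul_assoc g0, Matrix.mul_adjugate, smul_mul_assoc,
        one_mul, smul_smul, hg0, mul_inv_cancel₀ (sub_ne_zero.2 (Ne.symm hd1)), one_smul, hc'c,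
        sub_self]
    have hg0x := hperp x0 h1 h2' g hg
    have hx : x = x0 + vscale (ev i) (x i) + vscale f (inner' f x) := by rw [hx0]; abel
    rw [hx, Matrix.mulVec_add, Matrix.mulVec_add, hg0x, mulVec_vscale, mulVec_vscale, he, hgf]
  -- the central subgroup
  set C : Subgroup Y := (Subgroup.zpowers w).subgroupOf Y with hC
  have hn1 : (negOne : SL2) ∈ Q := negOne_mem_of_quat qd
  have hZY : Zi ∈ Y := Subgroup.subset_closure (Or.inl ⟨negOne, hn1, rfl⟩)
  have hPY : pl c hcU negOne ∈ Y := Subgroup.subset_closure (Or.inr ⟨negOne, hn1, rfl⟩)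
  have hw2 : ∀ z ∈ Subgroup.zpowers w, z = 1 ∨ z = w := by
    intro z hz
    obtain ⟨n, rfl⟩ := hz
    rcases Int.even_or_odd n with ⟨m, rfl⟩ | ⟨m, rfl⟩
    · left
      show w ^ (m + m) = 1
      rw [← two_mul, _root_.zpow_mul, zpow_two, hww, _root_.one_zpow]
    · right
      show w ^ (2 * m + 1) = w
      rw [_root_.zpow_add, _root_.zpow_mul, zpow_two, hww, _root_.one_zpow, one_mul, zpow_one]
  have hCc : C ≤ Subgroup.center Y := by
    intro z hz
    rw [Subgroup.mem_center_iff]
    intro y
    apply Subtype.ext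
    show (y : U ι F) * z = z * y
    rcases hw2 _ (Subgroup.mem_subgroupOf.1 hz) with e | e <;> rw [e]
    · simp
    · exact hcen _ y.2
  have hC2 : ∀ z ∈ C, z * z = 1 := by
    intro z hz
    apply Subtype.ext
    show (z : U ι F) * z = 1
    rcases hw2 _ (Subgroup.mem_subgroupOf.1 hz) with e | e <;> rw [e]
    · simp
    · exact hww
  have hZZ : Zi * Zi = 1 := by rw [hZi, ← map_mul, negOne_sq, map_one]
  have hZinv : Zi⁻¹ = Zi := inv_eq_of_mul_eq_one_right hZZ
  have hPfne : Pf ≠ 1 := by
    intro e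
    have h1 := pl_ev_self f hfU negOne
    rw [← hPf, e, mat_one, Matrix.one_mulVec] at h1
    have h3 := congrArg (inner' f) h1
    have hff : inner' f f = 1 := hfU
    rw [inner'_vscale_right f f, hff, one_mul, coe_negOne] at h3
    have h4 := congrFun (congrFun h3 0) 0
    simp at h4
    exact h2 (by linear_combination h4)
  have ht : (⟨Zi, hZY⟩ : Y) ∉ C := by
    intro hm
    rcases hw2 _ (Subgroup.mem_subgroupOf.1 hm) with e | e
    · have e' : Zi = 1 := e
      have h1 := pl_ev_self (ev i : ι → R2) (isU_ev i) (negOne : SL2)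
      rw [show pl (ev i) (isU_ev i) negOne = (1 : U ι F) from e', mat_one, Matrix.one_mulVec] at h1
      have h3 := congrFun (congrFun (congrFun h1 i) 0) 0
      simp [ev, vscale_apply, coe_negOne] at h3
      exact h2 (by linear_combination h3)
    · have e' : Zi = Zi * Pf := e
      exact hPfne (mul_eq_left.1 e'.symm)
  have hmain := central_mod C hCc hC2 ⟨Zi, hZY⟩
    (by
      rw [show (⟨Zi, hZY⟩ : Y) * ⟨Zi, hZY⟩ = 1 from Subtype.ext hZZ]
      exact one_mem _)
    ht
    (by
      rintro ⟨g, hg⟩ hp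
      rw [Subgroup.mem_subgroupOf]
      show g * Zi * g⁻¹ * Zi⁻¹ ∈ Subgroup.zpowers w
      have hp' : IsPGroup 2 (Subgroup.closure ({Zi, g * Zi * g⁻¹} : Set (U ι F))) := by
        have := hp.map Y.subtype
        rw [MonoidHom.map_closure, Set.image_pair] at this
        exact this
      have hco := hcomm i i g (hYH hg) hp'
      set e' := mat g *ᵥ ev i with he'
      have he'U : IsU e' := isU_mulVec g (isU_ev i)
      have hconj : g * Zi * g⁻¹ = pl e' he'U negOne := conj_plE g i negOne
      rw [hconj] at hco ⊢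
      rcases commute_cases h2 he'U i hco with h0 | ⟨h0, h1⟩
      · -- the plane of `f`
        have hwe' : mat w *ᵥ e' = -e' := by
          rw [he', ← mat_mulVec_mul, ← hcen g hg, mat_mulVec_mul, hwe, Matrix.mulVec_neg]
        have hef' : e' = vscale f (inner' f e') := by
          funext k
          rw [vscale_apply]
          by_cases hk : k = i
          · rw [hk, h0, hfi, zero_mul]
          · have h3 := congrFun hwe' k
            rw [hwv, if_neg hk, Pi.neg_apply, sub_eq_iff_eq_add, neg_add_eq_sub, eq_sub_iff_add_eq,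
              ← two_smul F (e' k)] at h3
            exact smul_right_injective _ h2 h3
        have hdet : (inner' f e').det = 1 := by
          refine eq_one_of_det ?_
          have h3 : inner' e' e' = 1 := he'U
          conv_lhs at h3 => rw [hef', inner'_vscale_left, inner'_vscale_right,
            show inner' f f = 1 from hfU, one_mul]
          exact h3
        have : pl e' he'U negOne = Pf := by
          rw [hPf]
          obtain ⟨δ, hδ⟩ : ∃ δ : SL2, (δ : R2) = inner' f e' := ⟨⟨_, hdet⟩, rfl⟩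
          have hef'' : e' = fun k => f k * (δ : R2) := by rw [hδ]; exact hef'
          have hU' : IsU (fun k => f k * (δ : R2)) := by
            have h4 := he'U; rw [hef''] at h4; exact h4
          rw [pl_congr hef'' he'U hU', pl_conj_scale hfU, ← negOne_central, mul_inv_cancel_right]
        rw [this, hZinv, show Pf * Zi = w by
          rw [hw]; exact (pl_comm (isU_ev i) hfU hef negOne negOne).symm]
        exact Subgroup.mem_zpowers w
      · have : pl e' he'U negOne = Zi := by
          have hee : e' = vscale (ev i) (e' i) := by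
            funext k
            rw [vscale_ev]
            by_cases hk : k = i
            · rw [if_pos hk, hk]
            · rw [if_neg hk, h0 k hk]
          obtain ⟨δ, hδ⟩ : ∃ δ : SL2, (δ : R2) = e' i := ⟨⟨_, h1⟩, rfl⟩
          have hee' : e' = fun k => (ev i : ι → R2) k * (δ : R2) := by rw [hδ]; exact hee
          have hU' : IsU (fun k => (ev i : ι → R2) k * (δ : R2)) := by
            have h4 := he'U; rw [hee'] at h4; exact h4
          rw [pl_congr hee' he'U hU', pl_conj_scale (isU_ev i), ← negOne_central, mul_inv_cancel_right]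
          rfl
        rw [this, mul_inv_cancel]
        exact one_mem _)
    (abelian_trivial qd hQ2 h2 H hHQ hh i j hYH
      (fun x hx => Subgroup.subset_closure (Or.inl ⟨x, hx, rfl⟩))
      (fun x hx => by
        rw [hconjc]
        exact Subgroup.subset_closure (Or.inr ⟨x, hx, rfl⟩))
      hdec)
  -- conclusion
  have hcC := hmain ⟨pl c hcU negOne, hPY⟩
  rw [Subgroup.mem_subgroupOf] at hcC
  set P := pl c hcU negOne with hP
  have hPP : P * P = 1 := by rw [hP, ← map_mul, negOne_sq, map_one]
  have hPinv : P⁻¹ = P := inv_eq_of_mul_eq_one_right hPP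
  have hc4 : (Zi * P) ^ 4 = 1 := by
    have e : P * Zi * P⁻¹ * Zi⁻¹ = (P * Zi) ^ 2 := by rw [hPinv, hZinv, pow_two]; group
    have hm : P * Zi * P⁻¹ * Zi⁻¹ ∈ Subgroup.zpowers w := hcC
    have h4 : (P * Zi) ^ 4 = 1 := by
      rw [show 4 = 2 * 2 from rfl, pow_mul, ← e, pow_two]
      rcases hw2 _ hm with e1 | e1 <;> rw [e1]
      · simp
      · exact hww
    rw [show Zi * P = P⁻¹ * (P * Zi) * P⁻¹⁻¹ by group, conj_pow, h4, mul_one, inv_inv, inv_mul_cancel]
  have hco := hcomm i j h hh (by
    rw [hconjc]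
    exact isPGroup_closure_pair hZZ hPP hc4)
  rw [hconjc] at hco
  rcases commute_cases h2 hcU i hco with h0 | ⟨-, h1⟩
  · exact h0
  · exact absurd h1 hd1

theorem det_neg_one_add {Z : R2} (hZ : Z 1 1 = -Z 0 0) :
    (-1 + Z).det = 1 + Z.det ∧ (-1 + Z) 0 0 + (-1 + Z) 1 1 = -2 := by
  refine ⟨?_, ?_⟩
  · simp [Matrix.det_fin_two, hZ]; ring
  · simp [hZ]; ring

theorem diag_neg_of_adj {M : R2} (hM : M.adjugate = -M) : M 1 1 = -M 0 0 := by
  rw [Matrix.adjugate_fin_two] at hM
  simpa using congrFun (congrFun hM 0) 0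

/-- The overgroup is block monomial. -/
theorem monomial (qd : Quat Q) (hQ2 : IsPGroup 2 Q) (h2 : (2 : F) ≠ 0) (H : Subgroup (U ι F))
    (hQH : ∀ i, ∀ x ∈ Q, plE i x ∈ H) (hHQ : ∀ i, ∀ x : SL2, plE i x ∈ H → x ∈ Q)
    (hcomm : ∀ i j, ∀ h ∈ H,
      IsPGroup 2 (Subgroup.closure ({plE i negOne, h * plE j negOne * h⁻¹} : Set (U ι F))) →
        (plE i negOne : U ι F) * (h * plE j negOne * h⁻¹) = h * plE j negOne * h⁻¹ * plE i negOne)
    {h : U ι F} (hh : h ∈ H) : ∃ (d : ι → SL2) (σ : Equiv.Perm ι), h = mono d σ := by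
  classical
  have hec : ∀ g ∈ H, ∀ i j, mat g i j = 0 ∨ (mat g i j).det = 1 := fun g hg =>
    entry_cases qd hQ2 h2 H hQH hHQ hcomm hg
  have huniq : ∀ j k l, mat h k j ≠ 0 → mat h l j ≠ 0 → k = l := by
    intro j k l hk hl
    by_contra hkl
    have hdk := (hec h hh k j).resolve_left hk
    have hdl := (hec h hh l j).resolve_left hl
    have hcol := isU_mulVec h (isU_ev j : IsU (ev j : ι → R2))
    have hsum : ∀ ε : SL2, ε = qd.u ∨ ε = qd.u⁻¹ →
        ((mat h k j).adjugate * (qd.u : R2) * mat h k j +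
          (mat h l j).adjugate * (ε : R2) * mat h l j).det = 0 := by
      intro ε hε
      set e : ι → SL2 := Function.update (Function.update 1 k qd.u) l ε with he
      have hek : e k = qd.u := by
        rw [he, Function.update_of_ne hkl, Function.update_self]
      have hel : e l = ε := by rw [he, Function.update_self]
      have hem : ∀ m, m ≠ k → m ≠ l → e m = 1 := fun m h1 h3 => by
        rw [he, Function.update_of_ne h3, Function.update_of_ne h1, Pi.one_apply]
      have hεQ : ε ∈ Q := by rcases hε with rfl | rfl; exacts [qd.hu, inv_mem qd.hu]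
      have heH : (dia e : U ι F) ∈ H := by
        have e1 : (dia e : U ι F) = plE k qd.u * plE l ε := by
          rw [plE_eq, plE_eq, ← map_mul]
          congr 1
          funext m
          rw [Pi.mul_apply]
          by_cases h1 : m = k
          · rw [h1, hek, Pi.mulSingle_eq_same, Pi.mulSingle_eq_of_ne hkl, mul_one]
          · by_cases h3 : m = l
            · rw [h3, hel, Pi.mulSingle_eq_same, Pi.mulSingle_eq_of_ne (Ne.symm hkl), one_mul]
            · rw [hem m h1 h3, Pi.mulSingle_eq_of_ne h1, Pi.mulSingle_eq_of_ne h3, mul_one]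
        rw [e1]; exact mul_mem (hQH _ _ qd.hu) (hQH _ _ hεQ)
      set X := (mat h k j).adjugate * (qd.u : R2) * mat h k j +
        (mat h l j).adjugate * (ε : R2) * mat h l j with hX
      have hent : mat (h⁻¹ * dia e * h) j j = -1 + X := by
        have h1 : mat (h⁻¹ * dia e * h) j j =
            ∑ m, (mat h m j).adjugate * (e m : R2) * mat h m j := by
          rw [mat_mul, mat_mul, mat_inv, mat_dia, Matrix.mul_apply]
          refine Finset.sum_congr rfl fun m _ => ?_
          rw [Matrix.mul_diagonal, adjT_apply]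
        have h3 : ∑ m, (mat h m j).adjugate * mat h m j = 1 := by
          have := hcol
          simpa only [IsU, mulVec_ev] using this
        have h4 : ∑ m, ((mat h m j).adjugate * (e m : R2) * mat h m j -
            (mat h m j).adjugate * mat h m j) = X - (1 + 1) := by
          rw [← Finset.sum_subset (Finset.subset_univ ({k, l} : Finset ι))]
          · rw [Finset.sum_pair hkl, hek, hel, Matrix.adjugate_mul, Matrix.adjugate_mul, hdk, hdl,
              one_smul, hX]
            abel
          · intro m _ hm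
            rw [Finset.mem_insert, Finset.mem_singleton, not_or] at hm
            rw [hem m hm.1 hm.2, Matrix.SpecialLinearGroup.coe_one, mul_one, sub_self]
        rw [Finset.sum_sub_distrib, h3, sub_eq_iff_eq_add] at h4
        rw [h1, h4]
        abel
      have hεε : ε * ε = negOne := by
        rcases hε with rfl | rfl
        · exact qd.huu
        · rw [← _root_.mul_inv_rev, qd.huu]; exact inv_eq_of_mul_eq_one_right negOne_sq
      have hXadj : X.adjugate = -X := by
        rw [hX, show ∀ A B : R2, (A + B).adjugate = A.adjugate + B.adjugate from map_add adjHom,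
          Matrix.adjugate_mul_distrib, Matrix.adjugate_mul_distrib, Matrix.adjugate_mul_distrib,
          Matrix.adjugate_mul_distrib, adj_adj, adj_adj, Quat.adjugate_eq_neg qd.huu,
          Quat.adjugate_eq_neg hεε]
        simp only [mul_neg, neg_mul, mul_assoc, neg_add]
      obtain ⟨hdet, htr⟩ := det_neg_one_add (diag_neg_of_adj hXadj)
      rcases hec _ (mul_mem (mul_mem (inv_mem hh) heH) hh) j j with h0 | h0
      · exfalso
        rw [hent] at h0
        rw [h0] at htr
        simp only [Matrix.zero_apply, add_zero] at htr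
        exact h2 (by linear_combination htr)
      · rw [hent, hdet] at h0
        linear_combination h0
    have hA := hsum qd.u (Or.inl rfl)
    have hB := hsum qd.u⁻¹ (Or.inr rfl)
    rw [Matrix.SpecialLinearGroup.coe_inv, Quat.adjugate_eq_neg qd.huu, mul_neg, neg_mul] at hB
    set X := (mat h k j).adjugate * (qd.u : R2) * mat h k j with hX
    set Y := (mat h l j).adjugate * (qd.u : R2) * mat h l j with hY
    have hX1 : X.det = 1 := by
      rw [hX, Matrix.det_mul, Matrix.det_mul, Matrix.det_adjugate, hdk, qd.u.2]; simp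
    have hY1 : Y.det = 1 := by
      rw [hY, Matrix.det_mul, Matrix.det_mul, Matrix.det_adjugate, hdl, qd.u.2]; simp
    simp [Matrix.det_fin_two] at hA hB hX1 hY1
    exact mul_ne_zero h2 h2 (by linear_combination hA + hB - 2 * hX1 - 2 * hY1)
  have hex : ∀ j, ∃ k, mat h k j ≠ 0 := by
    intro j
    by_contra hno
    have h1 := sum_det _ (isU_mulVec h (isU_ev j : IsU (ev j : ι → R2)))
    rw [Finset.sum_eq_zero] at h1
    · exact zero_ne_one h1
    · intro k _
      rw [mulVec_ev, not_not.1 fun hk => hno ⟨k, hk⟩]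
      simp
  choose σ hσ using hex
  have hσi : Function.Injective σ := by
    intro j j' hjj
    by_contra hne
    have h1 : mat (h⁻¹ * h) j j' = 0 := by rw [inv_mul_cancel, mat_one, Matrix.one_apply_ne hne]
    rw [mat_mul, mat_inv, Matrix.mul_apply, Finset.sum_eq_single (σ j), adjT_apply] at h1
    · have h3 : ((mat h (σ j) j).adjugate * mat h (σ j) j').det = 0 := by rw [h1]; simp
      rw [Matrix.det_mul, Matrix.det_adjugate, (hec h hh _ _).resolve_left (hσ j), hjj,
        (hec h hh _ _).resolve_left (hσ j')] at h3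
      simp at h3
    · intro m _ hm
      rw [adjT_apply, show mat h m j = 0 from
        not_not.1 fun hm' => hm (huniq j m (σ j) hm' (hσ j)), adj_zero, zero_mul]
    · simp
  set σ' : Equiv.Perm ι := Equiv.ofBijective σ (Finite.injective_iff_bijective.1 hσi) with hσ'
  have hd : ∀ k, (mat h k (σ'.symm k)).det = 1 := by
    intro k
    have h1 := hσ (σ'.symm k)
    rw [show σ (σ'.symm k) = k from σ'.apply_symm_apply k] at h1
    exact (hec h hh _ _).resolve_left h1
  obtain ⟨dd, hdd⟩ : ∃ dd : ι → SL2, ∀ k, (dd k : R2) = mat h k (σ'.symm k) :=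
    ⟨fun k => ⟨_, hd k⟩, fun _ => rfl⟩
  refine ⟨dd, σ', mat_injective ?_⟩
  refine Eq.trans ?_ (mat_mono _ _).symm
  ext1 k j
  rw [monoMat_apply]
  by_cases hkj : σ' j = k
  · rw [if_pos hkj]
    rw [hdd, ← hkj, σ'.symm_apply_apply]
  · rw [if_neg hkj]
    exact not_not.1 fun hne => hkj ((huniq j k (σ j) hne (hσ j)).symm)

end Cfsg.Agent.Lib.SpPronormal50
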