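import Cfsg.Agent.Lib.SpPronormal50.Sylow
import Mathlib

/-!
The criterion for the block monomial subgroup.
-/

set_option autoImplicit false
set_option linter.unusedSectionVars false
set_option linter.style.haveILetI false

namespace Cfsg.Agent.Lib.SpPronormal50

open Matrix Cfsg.Agent.Lib.PSLTwo.Sylow Cfsg.Agent.Lib.FusionPSp4

universe v

variable {F : Type v} [Field F] [Fintype F] {ι : Type} [Fintype ι] [DecidableEq ι]

local notation "R2" => Matrix (Fin 2) (Fin 2) F
local notation "SL2" => Matrix.SpecialLinearGroup (Fin 2) F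

/-- A 2-subgroup of an overgroup of a Sylow subgroup is conjugate into the latter inside the overgroup. -/
theorem exists_conj_mem {G : Type*} [Group G] [Finite G] (P : Sylow 2 G) {H K : Subgroup G}
    (hPH : (P : Subgroup G) ≤ H) (hKH : K ≤ H) (hK : IsPGroup 2 K) :
    ∃ h ∈ H, ∀ x ∈ K, h * x * h⁻¹ ∈ (P : Subgroup G) := by
  haveI : Fact (Nat.Prime 2) := ⟨Nat.prime_two⟩
  obtain ⟨R, hR⟩ := (hK.comap_of_injective H.subtype H.subtype_injective).exists_le_sylow
  obtain ⟨h, hh⟩ := MulAction.exists_smul_eq ↥H R (P.subtype hPH)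
  refine ⟨h, h.2, fun x hx => ?_⟩
  have h1 : h * (⟨x, hKH hx⟩ : H) * h⁻¹ ∈ ((h • R : Sylow 2 H) : Subgroup H) := by
    rw [Sylow.coe_subgroup_smul]
    exact ⟨_, hR hx, rfl⟩
  rw [hh, Sylow.coe_subtype] at h1
  exact h1

/-- The fibres of the evaluation on a transitive group have equal cardinality. -/
theorem exists_fibre_card (T : Subgroup (Equiv.Perm ι)) (htr : ∀ i j : ι, ∃ t ∈ T, t i = j) [Nonempty ι] [Fintype T] :
    ∃ N : ℕ, N ∣ Nat.card T ∧
      ∀ i k : ι, (∑ t : T, if (t : Equiv.Perm ι).symm i = k then 1 else 0 : ℕ) = N := by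
  classical
  obtain ⟨i0⟩ := ‹Nonempty ι›
  set c : ι → ι → ℕ := fun i k => ∑ t : T, if (t : Equiv.Perm ι).symm i = k then 1 else 0 with hc
  have hr : ∀ i k k', c i k = c i k' := by
    intro i k k'
    obtain ⟨r, hr, hrk⟩ := htr k' k
    refine Fintype.sum_equiv (Equiv.mulRight (⟨r, hr⟩ : T)) _ _ fun t => ?_
    congr 1
    simp only [Equiv.coe_mulRight, Subgroup.coe_mul, Equiv.Perm.mul_def, Equiv.symm_trans_apply,
      eq_iff_iff]
    rw [Equiv.symm_apply_eq (e := r), hrk]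
  have hl : ∀ i i' k, c i k = c i' k := by
    intro i i' k
    obtain ⟨r, hr, hri⟩ := htr i i'
    refine Fintype.sum_equiv (Equiv.mulLeft (⟨r, hr⟩ : T)) _ _ fun t => ?_
    congr 1
    simp only [Equiv.coe_mulLeft, Subgroup.coe_mul, Equiv.Perm.mul_def, Equiv.symm_trans_apply,
      eq_iff_iff]
    rw [← hri, Equiv.symm_apply_apply]
  refine ⟨c i0 i0, ⟨Fintype.card ι, ?_⟩, fun i k => (hl i i0 k).trans (hr i0 k i0)⟩
  have hone : ∀ t : T, (∑ k, if (t : Equiv.Perm ι).symm i0 = k then 1 else 0 : ℕ) = 1 := fun t => by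
    rw [Finset.sum_ite_eq]; simp
  have h : ∑ k, c i0 k = Nat.card T := by
    simp only [hc]
    rw [Finset.sum_comm, Finset.sum_congr rfl fun t _ => hone t, Finset.sum_const, smul_eq_mul, mul_one,
      Finset.card_univ, Nat.card_eq_fintype_card]
  rw [← h, Finset.sum_congr rfl fun k _ => hr i0 k i0, Finset.sum_const, smul_eq_mul, Finset.card_univ,
    mul_comm]

/-- If a conjugate of a block involution has transposition type, then `ω` on all blocks is in the
overgroup. -/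
theorem const_omega_mem (hodd : Fintype.card F % 2 = 1) (Q : Sylow 2 SL2)
    (qd : Quat (Q : Subgroup SL2)) (h2 : (2 : F) ≠ 0) (T : Subgroup (Equiv.Perm ι))
    (hT2 : IsPGroup 2 T) (htr : ∀ i j : ι, ∃ t ∈ T, t i = j) [Nonempty ι]
    {H : Subgroup (U ι F)} (hSH : mS (Q : Subgroup SL2) T ≤ H)
    (hHQ : ∀ i, ∀ x : SL2, plE i x ∈ H → x ∈ (Q : Subgroup SL2))
    {h : U ι F} (hh : h ∈ H) {m k l : ι} (hkl : k ≠ l) {g : R2} (hdet : (2 : F) * g.det = 1)
    (hck : (mat h *ᵥ ev m) k = g) (hcl : (mat h *ᵥ ev m) l = g)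
    (hrest : ∀ i, i ≠ k → i ≠ l → (mat h *ᵥ ev m) i = 0) :
    (dia (fun _ => qd.omega h2) : U ι F) ∈ H := by
  classical
  haveI : Fact (Nat.Prime 2) := ⟨Nat.prime_two⟩
  set c := mat h *ᵥ ev m with hc
  have hcU : IsU c := isU_mulVec h (isU_ev m)
  have hgg : g * g.adjugate = g.det • (1 : R2) := Matrix.mul_adjugate g
  have hψd : ∀ q : SL2, ((2 : F) • (g.adjugate * (q : R2) * g)).det = 1 := by
    intro q
    rw [Matrix.det_smul, Fintype.card_fin, Matrix.det_mul, Matrix.det_mul, Matrix.det_adjugate, q.2,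
      Fintype.card_fin]
    linear_combination ((2 : F) * g.det + 1) * hdet
  obtain ⟨ψ, hψ⟩ : ∃ ψ : SL2 → SL2, ∀ q, (ψ q : R2) = (2 : F) • (g.adjugate * (q : R2) * g) :=
    ⟨fun q => ⟨_, hψd q⟩, fun _ => rfl⟩
  have hψm : ∀ q r, ψ (q * r) = ψ q * ψ r := by
    intro q r
    apply Subtype.ext
    show (ψ (q * r) : R2) = (ψ q : R2) * (ψ r : R2)
    rw [hψ, hψ, hψ, Matrix.SpecialLinearGroup.coe_mul, smul_mul_assoc, mul_smul_comm, smul_smul,
      show g.adjugate * (q : R2) * g * (g.adjugate * (r : R2) * g) =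
        g.adjugate * (q : R2) * (g * g.adjugate) * (r : R2) * g by simp only [mul_assoc],
      hgg, mul_smul_comm, mul_one, smul_mul_assoc, smul_mul_assoc, smul_smul]
    rw [show (2 : F) * 2 * g.det = 2 by linear_combination (2 : F) * hdet]
    simp only [mul_assoc]
  let Ψ : SL2 →* SL2 := MonoidHom.mk' ψ hψm
  -- the conjugated quaternion group is the original one
  have hcs : ∀ q : SL2, ∀ i, (mat (plE k q * plE l q : U ι F) *ᵥ c) i = c i * (ψ q : R2) := by
    intro q i
    rw [mat_mulVec_mul, plE_mulVec]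
    have hgq : g * (ψ q : R2) = (q : R2) * g := by
      rw [hψ, mul_smul_comm, ← mul_assoc, ← mul_assoc, hgg, smul_mul_assoc, smul_mul_assoc, smul_smul,
        hdet, one_smul, one_mul]
    by_cases hik : i = k
    · subst hik
      rw [if_pos rfl, plE_mulVec, if_neg hkl, hck, hgq]
    · rw [if_neg hik, plE_mulVec]
      by_cases hil : i = l
      · subst hil; rw [if_pos rfl, hcl, hgq]
      · rw [if_neg hil, hrest i hik hil, zero_mul]
  have hmemc : ∀ x : SL2, pl c hcU x ∈ H → x ∈ (Q : Subgroup SL2) := by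
    intro x hx
    rw [← conj_pl h (isU_ev m) x] at hx
    refine hHQ m x ?_
    have := mul_mem (mul_mem (inv_mem hh) hx) hh
    simpa [plE, mul_assoc] using this
  have hmemc' : ∀ x ∈ (Q : Subgroup SL2), pl c hcU x ∈ H := by
    intro x hx
    rw [← conj_pl h (isU_ev m) x]
    exact mul_mem (mul_mem hh (hSH (plE_mem_mS m hx))) (inv_mem hh)
  have hψn : ∀ q ∈ (Q : Subgroup SL2), ∀ x ∈ (Q : Subgroup SL2),
      ψ q * x * (ψ q)⁻¹ ∈ (Q : Subgroup SL2) := by
    intro q hq x hx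
    refine hmemc _ ?_
    set s := (plE k q * plE l q : U ι F) with hs
    have hsH : s ∈ H := hSH (mul_mem (plE_mem_mS k hq) (plE_mem_mS l hq))
    have e : mat s *ᵥ c = fun i => c i * (ψ q : R2) := funext (hcs q)
    have hU : IsU (fun i => c i * (ψ q : R2)) := e ▸ isU_mulVec s hcU
    rw [← pl_conj_scale hcU (ψ q) x hU, ← pl_congr e (isU_mulVec s hcU) hU, ← conj_pl s hcU x]
    exact mul_mem (mul_mem hsH (hmemc' x hx)) (inv_mem hsH)
  have hψQ : ∀ q ∈ (Q : Subgroup SL2), ψ q ∈ (Q : Subgroup SL2) := by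
    intro q hq
    obtain ⟨n, hn⟩ := Q.isPGroup' ⟨q, hq⟩
    refine mem_sylow_of_normalizes Q.isPGroup' (fun _ hU hle => Q.is_maximal' hU hle) (k := n) ?_
      (hψn q hq)
    have h1 : q ^ 2 ^ n = 1 := congrArg Subtype.val hn
    show Ψ q ^ 2 ^ n = 1
    rw [← map_pow, h1, map_one]
  -- the word
  have hword := word_eq qd h2 hkl
    (A := pl c hcU (ψ qd.u)) (B := pl c hcU (ψ qd.v))
    (plane_elt hkl hcU hdet hck hcl hrest qd.u _ (hψ _))
    (plane_elt hkl hcU hdet hck hcl hrest qd.v _ (hψ _))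
  have hpairH : (plE k (qd.omega h2) * plE l (qd.omega h2) : U ι F) ∈ H := by
    rw [← hword]
    exact mul_mem (mul_mem (mul_mem (hmemc' _ (hψQ _ qd.hu)) (hSH (plE_mem_mS k (mul_mem qd.hu qd.hv))))
      (hmemc' _ (hψQ _ qd.hv))) (hSH (plE_mem_mS k qd.hu))
  -- spreading over the blocks
  set ω := qd.omega h2 with hω
  haveI : Fintype T := Fintype.ofFinite _
  obtain ⟨N, hN, hNc⟩ := exists_fibre_card T htr
  let E : (ι → ℕ) → Prop := fun e => (dia (fun i => ω ^ e i) : U ι F) ∈ H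
  have hE0 : E 0 := by
    show (dia (fun _ => ω ^ 0) : U ι F) ∈ H
    simp only [pow_zero]
    rw [show (fun _ : ι => (1 : SL2)) = 1 from rfl, map_one]; exact one_mem _
  have hEadd : ∀ a b, E a → E b → E (a + b) := by
    intro a b ha hb
    show (dia (fun i => ω ^ (a i + b i)) : U ι F) ∈ H
    rw [show (fun i => ω ^ (a i + b i)) = (fun i => ω ^ a i) * fun i => ω ^ b i from
      funext fun i => pow_add _ _ _, map_mul]
    exact mul_mem ha hb
  let et : T → ι → ℕ := fun t i => (if (t : Equiv.Perm ι).symm i = k then 1 else 0) +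
    (if (t : Equiv.Perm ι).symm i = l then 1 else 0)
  have hEt : ∀ t, E (et t) := by
    intro t
    have h1 : (per (t : Equiv.Perm ι) : U ι F) * (plE k ω * plE l ω) * (per (t : Equiv.Perm ι))⁻¹ ∈ H :=
      mul_mem (mul_mem (hSH (per_mem_mS t.2)) hpairH) (inv_mem (hSH (per_mem_mS t.2)))
    rw [plE_eq, plE_eq, ← map_mul, per_conj] at h1
    show (dia (fun i => ω ^ et t i) : U ι F) ∈ H
    convert h1 using 3
    rename_i i
    simp only [et, Pi.mul_apply]
    by_cases h3 : (t : Equiv.Perm ι).symm i = k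
    · simp [h3, hkl]
    · by_cases h4 : (t : Equiv.Perm ι).symm i = l
      · simp [h4, Ne.symm hkl]
      · simp [h3, h4]
  have hEN : E (fun _ => 2 * N) := by
    have h1 : E (∑ t, et t) := Finset.sum_induction et E hEadd hE0 fun t _ => hEt t
    have e : (∑ t, et t) = fun _ => 2 * N := by
      funext i
      rw [Finset.sum_apply]
      simp only [et, Finset.sum_add_distrib, hNc]
      omega
    rwa [e] at h1
  obtain ⟨a, ha⟩ := hT2.exists_card_eq
  obtain ⟨b, -, hb⟩ := (Nat.dvd_prime_pow Nat.prime_two).1 (ha ▸ hN)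
  have h3 : (2 * N) % 3 ≠ 0 := by
    intro h0
    have h4 : (3 : ℕ) ∣ 2 ^ (b + 1) := ⟨2 * N / 3, by rw [pow_succ, ← hb]; omega⟩
    have := Nat.prime_three.dvd_of_dvd_pow h4
    omega
  have h3c : ∀ j : ℕ, (dia (fun _ => ω ^ (3 * j)) : U ι F) ∈ H := fun j =>
    hSH (dia_mem_mS fun _ => qd.pow_three_mem h2 j)
  have hEN2 : ∀ j, E (fun _ => j * (2 * N)) := by
    intro j
    induction j with
    | zero =>
      simp only [zero_mul]
      exact hE0
    | succ j ih =>
      have := hEadd _ _ ih hEN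
      convert this using 1
      funext i
      simp only [Pi.add_apply]
      ring
  obtain ⟨j, r, hjr⟩ : ∃ j r, j * (2 * N) = 3 * r + 1 := by
    rcases (show (2 * N) % 3 = 1 ∨ (2 * N) % 3 = 2 by omega) with e | e
    · exact ⟨1, 2 * N / 3, by omega⟩
    · exact ⟨2, 2 * (2 * N) / 3, by omega⟩
  have h5 := mul_mem (inv_mem (h3c r)) (hEN2 j)
  rw [← map_inv, ← map_mul] at h5
  convert h5 using 2
  funext i
  simp only [Pi.mul_apply, Pi.inv_apply, hjr]
  rw [pow_succ, inv_mul_cancel_left]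

/-- The monomial subgroup is self-normalising if the Sylow 2-subgroup of `SL₂` is. -/
theorem mem_mS_of_self (hodd : Fintype.card F % 2 = 1) (Q : Sylow 2 SL2)
    (hnc : ∃ x ∈ (Q : Subgroup SL2), ∃ y ∈ (Q : Subgroup SL2), x * y ≠ y * x)
    (hself : ∀ h ∈ Subgroup.normalizer ((Q : Subgroup SL2) : Set SL2), h ∈ (Q : Subgroup SL2))
    (T : Subgroup (Equiv.Perm ι))
    (hT : Subgroup.normalizer (T : Set (Equiv.Perm ι)) ≤ T)
    (htr : ∀ i j : ι, ∃ t ∈ T, t i = j) [Nonempty ι] {g : U ι F}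
    (hg : g ∈ Subgroup.normalizer
      ((mS (ι := ι) (Q : Subgroup SL2) T : Subgroup (U ι F)) : Set (U ι F))) :
    g ∈ mS (Q : Subgroup SL2) T := by
  have h2 : (2 : F) ≠ 0 := two_ne_zero_of_odd hodd
  have hu : ∃ u ∈ (Q : Subgroup SL2), u * u ≠ 1 := by
    by_contra hno
    push Not at hno
    obtain ⟨x, hx, y, hy, hxy⟩ := hnc
    refine hxy ?_
    have hi : ∀ z ∈ (Q : Subgroup SL2), z⁻¹ = z := fun z hz =>
      inv_eq_of_mul_eq_one_right (hno z hz)
    calc x * y = (x * y)⁻¹ := (hi _ (mul_mem hx hy)).symm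
      _ = y * x := by rw [_root_.mul_inv_rev, hi x hx, hi y hy]
  obtain ⟨d, hd, s, hs, rfl⟩ := normalizer_mS (negOne_mem Q) hu h2 hT htr hg
  exact mul_mem (dia_mem_mS fun _ => hself d hd) hs

/-- The criterion when the Sylow 2-subgroup of `SL₂` is quaternion of order eight. -/
theorem good_mS (hodd : Fintype.card F % 2 = 1) (Q : Sylow 2 SL2) (qd : Quat (Q : Subgroup SL2))
    (T : Subgroup (Equiv.Perm ι)) (hT2 : IsPGroup 2 T)
    (hT : Subgroup.normalizer (T : Set (Equiv.Perm ι)) ≤ T)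
    (htr : ∀ i j : ι, ∃ t ∈ T, t i = j) [Nonempty ι]
    (P : Sylow 2 (U ι F)) (hP : (P : Subgroup (U ι F)) = mS (Q : Subgroup SL2) T) :
    Good (mS (ι := ι) (Q : Subgroup SL2) T) := by
  classical
  haveI : Fintype (U ι F) := Fintype.ofFinite _
  have h2 : (2 : F) ≠ 0 := two_ne_zero_of_odd hodd
  set S := mS (ι := ι) (Q : Subgroup SL2) T with hS
  have hN := fun g (hg : g ∈ Subgroup.normalizer (S : Set (U ι F))) => normalizer_mS (negOne_mem_of_quat qd)
    ⟨qd.u, qd.hu, by rw [qd.huu]; exact negOne_ne_one h2⟩ h2 hT htr hg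
  have hconst : ∀ d ∈ Subgroup.normalizer ((Q : Subgroup SL2) : Set SL2),
      (dia (fun _ => d) : U ι F) ∈ Subgroup.normalizer (S : Set (U ι F)) := by
    intro d hd
    refine mem_normalizer_of_forall ?_
    rintro _ ⟨e, σ, he, hσ, rfl⟩
    rw [dia_apply, mono_inv, mono_mul, mono_mul]
    refine mono_mem_mS (fun i => ?_) (by simpa using hσ)
    exact (Subgroup.mem_normalizer_iff.1 hd _).1 (he i)
  refine ⟨fun a ha b hb => ?_, fun H hSH a ha => ?_⟩
  · obtain ⟨d, hd, s, hs, rfl⟩ := hN a ha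
    obtain ⟨d', hd', s', hs', rfl⟩ := hN b hb
    set c := (dia (fun _ => d) : U ι F)
    set c' := (dia (fun _ => d') : U ι F)
    have hcn : ∀ z ∈ S, c * z * c⁻¹ ∈ S := fun z hz =>
      (Subgroup.mem_normalizer_iff.1 (hconst d hd) z).1 hz
    have hcn' : ∀ z ∈ S, c' * z * c'⁻¹ ∈ S := fun z hz =>
      (Subgroup.mem_normalizer_iff.1 (hconst d' hd') z).1 hz
    have e : c * s * (c' * s') * (c * s)⁻¹ * (c' * s')⁻¹ =
        (c * s * c⁻¹) * (c * (c' * (s' * s⁻¹) * c'⁻¹) * c⁻¹) * (c * c' * c⁻¹ * c'⁻¹) *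
          (c' * s'⁻¹ * c'⁻¹) := by group
    rw [e]
    refine mul_mem (mul_mem (mul_mem (hcn _ hs) (hcn _ (hcn' _ (mul_mem hs' (inv_mem hs))))) ?_)
      (hcn' _ (inv_mem hs'))
    show dia (fun _ => d) * dia (fun _ => d') * (dia (fun _ => d))⁻¹ * (dia (fun _ => d'))⁻¹ ∈ S
    rw [← map_inv, ← map_inv, ← map_mul, ← map_mul, ← map_mul]
    exact dia_mem_mS fun _ => commutator_quat hodd Q qd h2 hd hd'
  obtain ⟨d, hd, s, hs, rfl⟩ := hN a ha
  set c := (dia (fun _ => d) : U ι F) with hc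
  have hsN : s ∈ Subgroup.normalizer (H : Set (U ι F)) := Subgroup.le_normalizer (hSH hs)
  have hcj : cj H (c * s) = cj H c := by rw [← cj_mul, cj_eq_of_normalizes hsN]
  rw [hcj]
  suffices hgoal : c ∈ H ⊔ cj H c ∨ c ∈ Subgroup.normalizer (H : Set (U ι F)) by
    rcases hgoal with h | h
    · exact Or.inl (mul_mem h (Subgroup.mem_sup_left (hSH hs)))
    · exact Or.inr (mul_mem h hsN)
  let L : ι → Subgroup SL2 := fun i => H.comap (plE i)
  have hQL : ∀ i, (Q : Subgroup SL2) ≤ L i := fun i x hx => hSH (plE_mem_mS i hx)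
  have hLtr : ∀ i j, L i ≤ L j := by
    intro i j x hx
    obtain ⟨t, ht, htij⟩ := htr i j
    show plE j x ∈ H
    rw [← htij, ← per_conj_plE t i x]
    exact mul_mem (mul_mem (hSH (per_mem_mS ht)) hx) (inv_mem (hSH (per_mem_mS ht)))
  by_cases hL : ∃ i, L i ≠ (Q : Subgroup SL2)
  · -- large overgroup at a block
    left
    obtain ⟨i, hi⟩ := hL
    refine Subgroup.pi_mem_of_mulSingle_mem (H := (H ⊔ cj H c).comap dia) (fun _ => d) fun j => ?_
    have hj : L j ≠ (Q : Subgroup SL2) := fun e =>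
      hi (le_antisymm ((hLtr i j).trans e.le) (hQL i))
    show (dia (Pi.mulSingle j d) : U ι F) ∈ H ⊔ cj H c
    rw [← plE_eq]
    refine (sup_le ?_ ?_ : L j ⊔ cj (L j) d ≤ (H ⊔ cj H c).comap (plE j))
      (mem_sup_cj hodd Q qd (L j) (hQL j) hj hd)
    · exact fun x hx => Subgroup.mem_sup_left (show plE j x ∈ H from hx)
    · intro z hz
      obtain ⟨x, hx, rfl⟩ := mem_cj.1 hz
      refine Subgroup.mem_sup_right (mem_cj.2 ⟨plE j x, hx, ?_⟩)
      rw [hc, dia_apply, mono_conj_plE]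
      rfl
  have hLQ : ∀ i, L i = (Q : Subgroup SL2) := fun i => not_not.1 fun e => hL ⟨i, e⟩
  have hHQ : ∀ i, ∀ x : SL2, plE i x ∈ H → x ∈ (Q : Subgroup SL2) := fun i x hx => hLQ i ▸ hx
  have hn : (negOne : SL2) ∈ (Q : Subgroup SL2) := negOne_mem_of_quat qd
  by_cases hτ : ∀ h ∈ H, ∀ m, h * plE m negOne * h⁻¹ ∈ S → ∃ i, h * plE m negOne * h⁻¹ = plE i negOne
  · -- monomial overgroup
    right
    have hcomm : ∀ i j, ∀ h ∈ H,
        IsPGroup 2 (Subgroup.closure ({plE i negOne, h * plE j negOne * h⁻¹} : Set (U ι F))) →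
          (plE i negOne : U ι F) * (h * plE j negOne * h⁻¹) =
            h * plE j negOne * h⁻¹ * plE i negOne := by
      intro i j h hh hp
      have hKH : Subgroup.closure ({plE i negOne, h * plE j negOne * h⁻¹} : Set (U ι F)) ≤ H := by
        rw [Subgroup.closure_le]
        rintro z (rfl | rfl)
        · exact hSH (plE_mem_mS i hn)
        · exact mul_mem (mul_mem hh (hSH (plE_mem_mS j hn))) (inv_mem hh)
      obtain ⟨r, hr, hrK⟩ := exists_conj_mem P (hP ▸ hSH) hKH hp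
      have h1 := hrK _ (Subgroup.subset_closure (Or.inl rfl))
      have h3 := hrK _ (Subgroup.subset_closure (Or.inr rfl))
      rw [hP] at h1 h3
      obtain ⟨i', hi'⟩ := hτ r hr i h1
      have e : r * (h * plE j negOne * h⁻¹) * r⁻¹ = r * h * plE j negOne * (r * h)⁻¹ := by group
      rw [e] at h3
      obtain ⟨j', hj'⟩ := hτ _ (mul_mem hr hh) j h3
      have hA : plE i negOne = r⁻¹ * plE i' negOne * r := by rw [← hi']; group
      have hB : h * plE j negOne * h⁻¹ = r⁻¹ * plE j' negOne * r := by rw [← hj']; group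
      rw [hA, hB]
      calc r⁻¹ * plE i' negOne * r * (r⁻¹ * plE j' negOne * r)
          = r⁻¹ * (plE i' negOne * plE j' negOne) * r := by group
        _ = r⁻¹ * (plE j' negOne * plE i' negOne) * r := by rw [plE_commute]
        _ = _ := by group
    refine mem_normalizer_of_forall fun h hh => ?_
    obtain ⟨e, σ, rfl⟩ := monomial qd Q.isPGroup' h2 H (fun i x hx => hSH (plE_mem_mS i hx)) hHQ hcomm hh
    have heN : ∀ i, e i ∈ Subgroup.normalizer ((Q : Subgroup SL2) : Set SL2) := by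
      intro i
      refine mem_normalizer_of_forall fun q hq => ?_
      have h1 := mul_mem (mul_mem hh (hSH (plE_mem_mS (σ.symm i) hq))) (inv_mem hh)
      rw [mono_conj_plE, Equiv.apply_symm_apply] at h1
      exact hHQ i _ h1
    have h1 : c * mono e σ * c⁻¹ * (mono e σ)⁻¹ ∈ S := by
      rw [hc, dia_apply, mono_inv, mono_inv, mono_mul, mono_mul, mono_mul]
      refine mono_mem_mS (fun i => ?_) (by simp)
      have := commutator_quat hodd Q qd h2 hd (heN i)
      simp at this ⊢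
      exact this
    simpa using mul_mem (hSH h1) hh
  · -- transposition type
    left
    push Not at hτ
    obtain ⟨h, hh, m, ⟨e, σ, he, hσ, hx⟩, hne⟩ := hτ
    set c₀ := mat h *ᵥ ev m with hc₀
    have hc₀U : IsU c₀ := isU_mulVec h (isU_ev m)
    rcases classify h2 hc₀U ((conj_plE h m negOne).symm.trans hx) with ⟨i, -, -, hi⟩ |
      ⟨k, l, hkl, -, -, hdet, hcl, hrest⟩
    · exact absurd ((conj_plE h m negOne).trans hi) (hne i)
    set y : SL2 := negOne * e l with hy
    have hyQ : y⁻¹ ∈ (Q : Subgroup SL2) := inv_mem (mul_mem hn (he l))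
    have hyc : c₀ l = (y : R2) * c₀ k := by
      rw [hy, Matrix.SpecialLinearGroup.coe_mul, coe_negOne, neg_one_mul, neg_mul, hcl]
    have hs : (plE l y⁻¹ : U ι F) * h ∈ H := mul_mem (hSH (plE_mem_mS l hyQ)) hh
    have hcol : ∀ i, (mat ((plE l y⁻¹ : U ι F) * h) *ᵥ ev m) i =
        if i = l then c₀ k else c₀ i := by
      intro i
      rw [mat_mulVec_mul, plE_mulVec, ← hc₀]
      by_cases hil : i = l
      · rw [if_pos hil, if_pos hil, hyc, ← mul_assoc, ← Matrix.SpecialLinearGroup.coe_mul,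
          inv_mul_cancel, Matrix.SpecialLinearGroup.coe_one, one_mul]
      · rw [if_neg hil, if_neg hil]
    have hω := const_omega_mem hodd Q qd h2 T hT2 htr hSH hHQ hs hkl hdet
      (by rw [hcol, if_neg hkl]) (by rw [hcol, if_pos rfl])
      (fun i hik hil => by rw [hcol, if_neg hil, hrest i hik hil])
    refine Subgroup.mem_sup_left ?_
    obtain ⟨q, hq, n, rfl⟩ := normalizer_quat hodd Q qd h2 hd
    rw [hc, show (fun _ : ι => q * qd.omega h2 ^ n) = (fun _ => q) * (fun _ => qd.omega h2) ^ n from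
      funext fun _ => rfl, map_mul, map_pow]
    exact mul_mem (hSH (dia_mem_mS fun _ => hq)) (pow_mem hω n)

end Cfsg.Agent.Lib.SpPronormal50
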