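import Cfsg.Agent.Lib.SpPronormal50.Block
import Cfsg.Agent.Lib.SpPronormal50.Central
import Mathlib

/-!
An overgroup of the quaternion diagonal whose plane involutions commute whenever they generate a 2-group
consists of block monomial elements.
-/

set_option autoImplicit false
set_option linter.unusedSectionVars false
set_option linter.style.haveILetI false

namespace Cfsg.Agent.Lib.SpPronormal50

open Matrix Cfsg.Agent.Lib.PSLTwo.Sylow Cfsg.Agent.Lib.FusionPSp4

universe v

variable {F : Type v} [Field F] {ι : Type} [Fintype ι] [DecidableEq ι]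

local notation "R2" => Matrix (Fin 2) (Fin 2) F
local notation "SL2" => Matrix.SpecialLinearGroup (Fin 2) F

/-! ### Two by two matrices -/

theorem two_smul_eq_zero_iff (h2 : (2 : F) ≠ 0) {A : R2} : (2 : F) • A = 0 ↔ A = 0 := by
  simp [smul_eq_zero, h2]

theorem scalar_of_adj_eq (h2 : (2 : F) ≠ 0) {A : R2} (h : A.adjugate = A) : A = (A 0 0) • (1 : R2) := by
  rw [Matrix.adjugate_fin_two] at h
  have h00 := congrFun (congrFun h 0) 0
  have h01 := congrFun (congrFun h 0) 1
  have h10 := congrFun (congrFun h 1) 0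
  simp at h00 h01 h10
  have e01 : A 0 1 = 0 := by
    have : (2 : F) * A 0 1 = 0 := by linear_combination -h01
    exact (mul_eq_zero.1 this).resolve_left h2
  have e10 : A 1 0 = 0 := by
    have : (2 : F) * A 1 0 = 0 := by linear_combination -h10
    exact (mul_eq_zero.1 this).resolve_left h2
  ext i j
  fin_cases i <;> fin_cases j <;> simp [e01, e10, h00]

theorem eq_zero_of_plane (h2 : (2 : F) ≠ 0) {u v b : R2} (hu : u * u = -1) (hv : v * v = -1)
    (hvu : v * u = -(u * v)) (hbu : b * u * b.adjugate = 0) (hbv : b * v * b.adjugate = 0) : b = 0 := by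
  by_contra hb
  have hdet : b.det = 0 := by
    by_contra hd
    have h1 : b.adjugate * (b * u * b.adjugate) * b = 0 := by rw [hbu, mul_zero, zero_mul]
    simp only [← mul_assoc, Matrix.adjugate_mul] at h1
    rw [mul_assoc _ b.adjugate b, Matrix.adjugate_mul] at h1
    simp only [smul_mul_assoc, mul_smul_comm, one_mul, mul_one, smul_smul, smul_eq_zero,
      mul_eq_zero, hd, or_self, false_or] at h1
    rw [h1] at hu
    simp at hu
  have hbq : b * b.adjugate = 0 := by rw [Matrix.mul_adjugate, hdet, zero_smul]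
  obtain ⟨j, q, hq, hqj⟩ : ∃ j : Fin 2, ∃ q : Fin 2 → F, q ≠ 0 ∧ q = fun i => b.adjugate i j := by
    by_contra h
    apply hb
    have h0 : b.adjugate = 0 := by
      ext i j
      by_contra hij
      exact h ⟨j, fun i => b.adjugate i j, fun e => hij (congrFun e i), rfl⟩
    rw [← adj_adj b, h0, adj_zero]
  have hk : ∀ M : R2, b * M * b.adjugate = 0 → b *ᵥ (M *ᵥ q) = 0 := by
    intro M hM
    funext r
    have := congrFun (congrFun hM r) j
    rw [Matrix.mul_assoc] at this
    simpa [Matrix.mul_apply, Matrix.mulVec, dotProduct, hqj] using this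
  have hbq' : b *ᵥ q = 0 := by simpa using hk 1 (by rw [mul_one, hbq])
  have hprop : ∀ p : Fin 2 → F, b *ᵥ p = 0 → ∃ c : F, p = c • q := by
    intro p hp
    obtain ⟨r, s, hrs⟩ : ∃ r s, b r s ≠ 0 := by
      by_contra h
      apply hb
      ext r s
      by_contra hrs
      exact h ⟨r, s, hrs⟩
    have e1 := congrFun hp r
    have e2 := congrFun hbq' r
    simp [Matrix.mulVec, dotProduct, Fin.sum_univ_two] at e1 e2
    have hD : p 0 * q 1 - p 1 * q 0 = 0 := by
      have : b r s * (p 0 * q 1 - p 1 * q 0) = 0 := by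
        fin_cases s
        · simp only [Fin.zero_eta]
          linear_combination q 1 * e1 - p 1 * e2
        · simp only [Fin.mk_one]
          linear_combination p 0 * e2 - q 0 * e1
      exact (mul_eq_zero.1 this).resolve_left hrs
    by_cases h0 : q 0 = 0
    · have h1 : q 1 ≠ 0 := fun h1 => hq (by funext i; fin_cases i <;> assumption)
      have hp0 : p 0 = 0 := by
        rw [h0, mul_zero, sub_zero] at hD
        exact (mul_eq_zero.1 hD).resolve_right h1
      exact ⟨p 1 / q 1, by funext i; fin_cases i <;> simp [h0, hp0, h1]⟩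
    · refine ⟨p 0 / q 0, ?_⟩
      funext i
      fin_cases i
      · simp [h0]
      · simp
        field_simp
        linear_combination -hD
  obtain ⟨l, hl⟩ := hprop _ (hk u hbu)
  obtain ⟨m, hm⟩ := hprop _ (hk v hbv)
  have huv : (v * u) *ᵥ q = (-(u * v)) *ᵥ q := by rw [hvu]
  rw [Matrix.neg_mulVec, ← Matrix.mulVec_mulVec, ← Matrix.mulVec_mulVec, hl, hm, Matrix.mulVec_smul,
    Matrix.mulVec_smul, hl, hm, smul_smul, smul_smul] at huv
  have h0 : (l * m + m * l) • q = 0 := by
    rw [add_smul, huv, mul_comm m l]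
    exact neg_add_cancel _
  have huu : (u * u) *ᵥ q = (l * l) • q := by
    rw [← Matrix.mulVec_mulVec, hl, Matrix.mulVec_smul, hl, smul_smul]
  have hvv : (v * v) *ᵥ q = (m * m) • q := by
    rw [← Matrix.mulVec_mulVec, hm, Matrix.mulVec_smul, hm, smul_smul]
  rw [hu, Matrix.neg_mulVec, Matrix.one_mulVec] at huu
  rw [hv, Matrix.neg_mulVec, Matrix.one_mulVec] at hvv
  have hl0 : l ≠ 0 := fun e => hq (neg_eq_zero.1 (by rw [huu, e, mul_zero, zero_smul]))
  have hm0 : m ≠ 0 := fun e => hq (neg_eq_zero.1 (by rw [hvv, e, mul_zero, zero_smul]))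
  rcases smul_eq_zero.1 h0 with h | h
  · rw [mul_comm m l, ← two_mul, mul_eq_zero] at h
    rcases h with h | h
    · exact h2 h
    · exact mul_ne_zero hl0 hm0 h
  · exact hq h

/-! ### Vectors -/

/-- The vector `c r`. -/
def vscale (c : ι → R2) (r : R2) : ι → R2 := fun k => c k * r

theorem vscale_apply (c : ι → R2) (r : R2) (k : ι) : vscale c r k = c k * r := rfl

theorem mulVec_vscale (X : Matrix ι ι R2) (c : ι → R2) (r : R2) :
    X *ᵥ vscale c r = vscale (X *ᵥ c) r := mulVec_mul X c r

theorem mat_mulVec_mul (X Y : U ι F) (c : ι → R2) : mat (X * Y) *ᵥ c = mat X *ᵥ (mat Y *ᵥ c) := by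
  rw [mat_mul, Matrix.mulVec_mulVec]

theorem inner'_adj (c d : ι → R2) : (inner' c d).adjugate = inner' d c := by
  simp [inner', adj_sum, Matrix.adjugate_mul_distrib, adj_adj]

theorem inner'_vscale_left (c d : ι → R2) (r : R2) :
    inner' (vscale c r) d = r.adjugate * inner' c d := by
  simp [inner', vscale, Finset.mul_sum, Matrix.adjugate_mul_distrib, mul_assoc]

theorem inner'_vscale_right (c d : ι → R2) (r : R2) :
    inner' c (vscale d r) = inner' c d * r := by
  simp [inner', vscale, Finset.sum_mul, mul_assoc]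

theorem inner'_sub_right (c d e : ι → R2) : inner' c (d - e) = inner' c d - inner' c e := by
  simp [inner', mul_sub, Finset.sum_sub_distrib]

theorem inner'_ev_left (i : ι) (d : ι → R2) : inner' (ev i) d = d i := by
  unfold inner'
  rw [Finset.sum_eq_single i]
  · simp [ev]
  · intro k _ hk
    simp [ev, hk, adj_zero]
  · simp

theorem inner'_ev_right (i : ι) (c : ι → R2) : inner' c (ev i) = (c i).adjugate := by
  rw [← inner'_adj, inner'_ev_left]

theorem vscale_ev (i : ι) (r : R2) (k : ι) : vscale (ev i) r k = if k = i then r else 0 := by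
  by_cases h : k = i <;> simp [vscale, ev, h]

theorem pl_mulVec {c : ι → R2} (hc : IsU c) (x : SL2) (d : ι → R2) (k : ι) :
    (mat (pl c hc x) *ᵥ d) k = d k + c k * ((x : R2) - 1) * inner' c d := by
  rw [mat_pl, plMat, Matrix.add_mulVec, Matrix.one_mulVec, Pi.add_apply]
  congr 1
  simp [Matrix.mulVec, dotProduct, outer_apply, inner', Finset.mul_sum, mul_assoc]

theorem pl_fix {c : ι → R2} (hc : IsU c) (x : SL2) {d : ι → R2} (h : inner' c d = 0) :
    mat (pl c hc x) *ᵥ d = d := by
  funext k
  rw [pl_mulVec, h, mul_zero, add_zero]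

theorem pl_ev_self (c : ι → R2) (hc : IsU c) (x : SL2) :
    mat (pl c hc x) *ᵥ c = vscale c (x : R2) := by
  funext k
  rw [pl_mulVec, show inner' c c = 1 from hc, mul_one, vscale_apply, mul_sub, mul_one, add_sub_cancel]

/-- Elements with the same action on all vectors are equal. -/
theorem eq_of_mulVec {X Y : U ι F} (h : ∀ d : ι → R2, mat X *ᵥ d = mat Y *ᵥ d) : X = Y := by
  apply mat_injective
  ext1 k l
  have := congrFun (h (ev l)) k
  rwa [mulVec_ev, mulVec_ev] at this

theorem pl_neg {c : ι → R2} (hc : IsU c) (hc' : IsU (-c)) (x : SL2) : pl (-c) hc' x = pl c hc x := by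
  apply mat_injective
  rw [mat_pl, mat_pl, plMat, plMat]
  congr 1
  ext1 i j
  simp [outer_apply, adj_neg]

theorem mat_dia (d : ι → SL2) : mat (dia d : U ι F) = Matrix.diagonal fun i => (d i : R2) := by
  ext1 i j
  rw [dia_apply, mat_mono, monoMat_apply]
  by_cases h : i = j
  · subst h; simp
  · simp [h, Ne.symm h]

theorem mat_dia_conj (a b : ι → SL2) (X : U ι F) (k l : ι) :
    mat (dia a * X * dia b) k l = (a k : R2) * mat X k l * (b l : R2) := by
  rw [mat_mul, mat_mul, mat_dia, mat_dia, Matrix.mul_diagonal, Matrix.diagonal_mul]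

/-- The plane elements at a block. -/
def plE (i : ι) : SL2 →* U ι F := pl (ev i) (isU_ev i)

theorem plE_eq (i : ι) (x : SL2) : (plE i x : U ι F) = dia (Pi.mulSingle i x) := (dia_single i x).symm

theorem plE_inv (i : ι) (x : SL2) : (plE i x : U ι F)⁻¹ = plE i x⁻¹ := (map_inv _ _).symm

theorem plE_conj (i : ι) (x : SL2) (X : U ι F) (k l : ι) :
    mat (plE i x * X * (plE i x)⁻¹) k l =
      ((Pi.mulSingle i x : ι → SL2) k : R2) * mat X k l *
        ((Pi.mulSingle i x⁻¹ : ι → SL2) l : R2) := by
  rw [plE_inv, plE_eq, plE_eq, mat_dia_conj]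

theorem column_eq (X : U ι F) (i : ι) : (mat X *ᵥ ev i) = fun k => mat X k i :=
  funext fun k => mulVec_ev _ _ _

/-- A column determines the conjugate of a plane element. -/
theorem conj_plE (X : U ι F) (i : ι) (x : SL2) :
    X * plE i x * X⁻¹ = pl (mat X *ᵥ ev i) (isU_mulVec X (isU_ev i)) x := conj_pl X (isU_ev i) x

theorem singular_zero {c : ι → R2} (hc : IsU c) (i : ι) (hd : (c i).det = 0)
    (h : ∀ k, k ≠ i → c k * (c i).adjugate = 0) : c i = 0 := by
  have h1 : (c i).adjugate = 0 := by
    calc (c i).adjugate = (∑ k, (c k).adjugate * c k) * (c i).adjugate := by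
          rw [show ∑ k, (c k).adjugate * c k = 1 from hc, one_mul]
      _ = (c i).adjugate * c i * (c i).adjugate := by
          rw [Finset.sum_mul, Finset.sum_eq_single i]
          · intro k _ hk
            rw [mul_assoc, h k hk, mul_zero]
          · simp
      _ = 0 := by rw [Matrix.adjugate_mul, hd, zero_smul, zero_mul]
  rw [← adj_adj (c i), h1, adj_zero]

theorem unit_column {c : ι → R2} (hc : IsU c) (i : ι)
    (h : ∀ k, k ≠ i → c k * (c i).adjugate = 0) (hd : (c i).det ≠ 0) :
    (∀ k, k ≠ i → c k = 0) ∧ (c i).det = 1 := by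
  have h0 : ∀ k, k ≠ i → c k = 0 := by
    intro k hk
    have h1 := congrArg (· * c i) (h k hk)
    simp only [mul_assoc, Matrix.adjugate_mul, mul_smul_comm, mul_one, zero_mul, smul_eq_zero, hd,
      false_or] at h1
    exact h1
  refine ⟨h0, ?_⟩
  have h2 := sum_det c hc
  rwa [Finset.sum_eq_single i (fun k _ hk => by simp [h0 k hk]) (by simp)] at h2

/-- Commuting plane involutions have orthogonal or equal planes. -/
theorem commute_cases (h2 : (2 : F) ≠ 0) {c : ι → R2} (hc : IsU c) (i : ι)
    (h : (plE i negOne : U ι F) * pl c hc negOne = pl c hc negOne * plE i negOne) :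
    c i = 0 ∨ ((∀ k, k ≠ i → c k = 0) ∧ (c i).det = 1) := by
  have h0 : ∀ k, k ≠ i → c k * (c i).adjugate = 0 := by
    intro k hk
    have h1 : (plE i negOne : U ι F) * pl c hc negOne * (plE i negOne)⁻¹ = pl c hc negOne := by
      rw [h, mul_inv_cancel_right]
    have h3 := congrArg (fun X => mat X k i) h1
    simp only [plE_conj, Pi.mulSingle_eq_same, Pi.mulSingle_eq_of_ne hk,
      Matrix.SpecialLinearGroup.coe_one, one_mul, mat_pl] at h3
    rw [plMat_negOne_apply, Matrix.one_apply_ne hk, zero_sub] at h3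
    rw [show ((negOne : SL2)⁻¹ : SL2) = negOne from inv_eq_of_mul_eq_one_right negOne_sq, coe_negOne,
      mul_neg, mul_one, neg_neg] at h3
    have h4 : (2 : F) • ((2 : F) • (c k * (c i).adjugate)) = 0 := by
      rw [two_smul F ((2 : F) • _)]
      exact add_eq_zero_iff_eq_neg.2 h3
    exact (two_smul_eq_zero_iff h2).1 ((two_smul_eq_zero_iff h2).1 h4)
  by_cases hd : (c i).det = 0
  · exact Or.inl (singular_zero hc i hd h0)
  · exact Or.inr (unit_column hc i h0 hd)

variable {Q : Subgroup (Matrix.SpecialLinearGroup (Fin 2) F)}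

/-- An odd abelian subgroup normalised by the quaternion group at a block fixes that block. -/
theorem fix_ev [Fintype F] (qd : Quat Q) (hQ2 : IsPGroup 2 Q) (h2 : (2 : F) ≠ 0) (H A : Subgroup (U ι F))
    (hAH : A ≤ H) (hA : ∀ a ∈ A, ∀ b ∈ A, a * b = b * a) (hodd : Odd (Nat.card A)) (i : ι)
    (hHQ : ∀ x : SL2, plE i x ∈ H → x ∈ Q)
    (hn : ∀ x ∈ Q, ∀ a ∈ A, plE i x * a * (plE i x)⁻¹ ∈ A)
    {g : U ι F} (hg : g ∈ A) : mat g *ᵥ ev i = ev i := by
  classical
  set m := Nat.card A with hm
  have hpow : ∀ a ∈ A, a ^ m = 1 := fun a ha =>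
    congrArg Subtype.val (pow_card_eq_one' (G := A) (x := ⟨a, ha⟩))
  have hn1 : (negOne : SL2) ∈ Q := negOne_mem_of_quat qd
  have hninv : ((negOne : SL2))⁻¹ = negOne := inv_eq_of_mul_eq_one_right negOne_sq
  set Z : U ι F := plE i negOne with hZ
  have hZinv : Z⁻¹ = Z := by rw [hZ, plE_inv, hninv]
  set o := g * Z * g⁻¹ * Z⁻¹ with ho
  have hoA : o ∈ A := by
    rw [ho, show g * Z * g⁻¹ * Z⁻¹ = g * (Z * g⁻¹ * Z⁻¹) by group]
    exact mul_mem hg (hn _ hn1 _ (inv_mem hg))
  have hinv : Z * o * Z⁻¹ = o⁻¹ := by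
    rw [ho]
    conv_rhs => rw [_root_.mul_inv_rev, _root_.mul_inv_rev, _root_.mul_inv_rev, inv_inv, inv_inv, hZinv]
    rw [hZinv]
    calc Z * (g * Z * g⁻¹ * Z) * Z = Z * g * Z * g⁻¹ * (Z * Z) := by simp only [mul_assoc]
      _ = Z * g * Z * g⁻¹ := by
          rw [show Z * Z = 1 by rw [hZ, ← map_mul, negOne_sq, map_one], mul_one]
      _ = _ := by simp only [mul_assoc]
  have hoe : ∀ k l, ((Pi.mulSingle i negOne : ι → SL2) k : R2) * mat o k l *
      ((Pi.mulSingle i negOne : ι → SL2) l : R2) = (mat o l k).adjugate := by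
    intro k l
    have h := congrArg (fun X => mat X k l) hinv
    simp only [hZ, plE_conj, hninv, mat_inv, adjT_apply] at h
    exact h
  have hoii : (mat o i i).adjugate = mat o i i := by
    rw [← hoe i i, Pi.mulSingle_eq_same, coe_negOne, neg_one_mul, mul_neg, mul_one, neg_neg]
  have hoik : ∀ k, k ≠ i → mat o i k = -(mat o k i).adjugate := by
    intro k hk
    rw [← hoe i k, Pi.mulSingle_eq_same, Pi.mulSingle_eq_of_ne hk, coe_negOne,
      Matrix.SpecialLinearGroup.coe_one, neg_one_mul, mul_one, neg_neg]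
  have hcol : ∀ k, k ≠ i → mat o k i = 0 := by
    intro k hk
    have key : ∀ x ∈ Q, x * x = negOne → mat o k i * (x : R2) * (mat o k i).adjugate = 0 := by
      intro x hx hxx
      set o' := plE i x * o * (plE i x)⁻¹ with ho'
      have hc' : ∑ l, mat o k l * mat o' l k = ∑ l, mat o' k l * mat o l k := by
        have hc : o * o' = o' * o := hA o hoA o' (hn x hx o hoA)
        have := congrArg (fun X => mat X k k) hc
        simpa only [mat_mul o o', mat_mul o' o, Matrix.mul_apply] using this
      rw [← sub_eq_zero, ← Finset.sum_sub_distrib, Finset.sum_eq_single i] at hc'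
      · rw [ho', plE_conj, plE_conj, Pi.mulSingle_eq_same, Pi.mulSingle_eq_same,
          Pi.mulSingle_eq_of_ne hk, Pi.mulSingle_eq_of_ne hk, Matrix.SpecialLinearGroup.coe_one, mul_one,
          one_mul, Matrix.SpecialLinearGroup.coe_inv, Quat.adjugate_eq_neg hxx, hoik k hk] at hc'
        apply (two_smul_eq_zero_iff h2).1
        rw [two_smul]
        simp only [mul_neg, neg_mul, sub_neg_eq_add, mul_assoc, neg_neg] at hc' ⊢
        rw [← neg_eq_zero, neg_add, ← sub_eq_add_neg]
        convert hc' using 1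
      · intro l _ hl
        rw [ho', plE_conj, plE_conj, Pi.mulSingle_eq_of_ne hk, Pi.mulSingle_eq_of_ne hk,
          Pi.mulSingle_eq_of_ne hl, Pi.mulSingle_eq_of_ne hl, Matrix.SpecialLinearGroup.coe_one, mul_one,
          one_mul, mul_one, one_mul, sub_self]
      · simp
    exact eq_zero_of_plane h2 qd.coe_uu qd.coe_vv qd.coe_vu (key _ qd.hu qd.huu) (key _ qd.hv qd.hvv)
  obtain ⟨a, ha⟩ : ∃ a : F, mat o i i = a • (1 : R2) := ⟨_, scalar_of_adj_eq h2 hoii⟩
  have hoev : mat o *ᵥ ev i = vscale (ev i) (a • (1 : R2)) := by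
    funext k
    rw [mulVec_ev, vscale_ev]
    by_cases hk : k = i
    · rw [if_pos hk, hk, ha]
    · rw [if_neg hk, hcol k hk]
  have ha2 : a * a = 1 := by
    have h := sum_det _ (isU_mulVec o (isU_ev i))
    rw [Finset.sum_eq_single i (fun k _ hk => by simp [mulVec_ev, hcol k hk]) (by simp),
      mulVec_ev, ha, Matrix.det_smul, Fintype.card_fin, Matrix.det_one, mul_one] at h
    rw [← pow_two, h]
  have ha1 : a = 1 := by
    have hp : ∀ n : ℕ, mat (o ^ n) *ᵥ ev i = vscale (ev i) ((a ^ n) • (1 : R2)) := by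
      intro n
      induction n with
      | zero =>
        funext k
        rw [pow_zero, mat_one, Matrix.one_mulVec, pow_zero, one_smul, vscale_apply, mul_one]
      | succ n ih =>
        rw [pow_succ', mat_mulVec_mul, ih, mulVec_vscale, hoev]
        funext k
        simp [vscale_apply, mul_assoc, smul_smul, pow_succ']
        rw [mul_comm]
    have h := congrFun (hp m) i
    rw [hpow o hoA, mat_one, Matrix.one_mulVec, vscale_apply] at h
    simp only [ev, Pi.single_eq_same, one_mul] at h
    have h' := congrFun (congrFun h 0) 0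
    simp at h'
    obtain ⟨j, hj⟩ := hodd
    rw [hj, pow_succ, pow_mul, pow_two, ha2, one_pow, one_mul] at h'
    exact h'.symm
  set p := mat g *ᵥ ev i with hp
  have hpU : IsU p := isU_mulVec g (isU_ev i)
  have hPe : ∀ k, plMat p ((negOne : SL2) : R2) k i = if k = i then -1 else 0 := by
    intro k
    have e : g * Z * g⁻¹ = o * Z := by rw [ho]; group
    have h := congrArg (fun X => (mat X *ᵥ ev i) k) e
    simp only [hZ, conj_plE, mat_mulVec_mul] at h
    rw [show mat (plE i negOne : U ι F) *ᵥ ev i = vscale (ev i) (((negOne : SL2)) : R2) from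
      pl_ev_self _ _ _, mulVec_vscale, hoev, mulVec_ev, mat_pl] at h
    rw [h, vscale_apply, vscale_ev, coe_negOne, ha1, one_smul]
    by_cases hk : k = i <;> simp [hk]
  have hp0 : ∀ k, k ≠ i → p k * (p i).adjugate = 0 := by
    intro k hk
    have h := hPe k
    rw [if_neg hk, plMat_negOne_apply, Matrix.one_apply_ne hk, zero_sub, neg_eq_zero] at h
    exact (two_smul_eq_zero_iff h2).1 h
  have hpd : (p i).det = 1 := by
    have h := hPe i
    rw [if_pos rfl, plMat_negOne_apply, Matrix.one_apply_eq, Matrix.mul_adjugate] at h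
    have h' := congrFun (congrFun h 0) 0
    simp at h'
    exact mul_left_cancel₀ h2 (by linear_combination -h')
  obtain ⟨hz, -⟩ := unit_column hpU i hp0 (by rw [hpd]; exact one_ne_zero)
  set t : SL2 := ⟨p i, hpd⟩ with htdef
  have hpt : p = vscale (ev i) (t : R2) := by
    funext k
    rw [vscale_ev]
    by_cases hk : k = i
    · rw [if_pos hk, hk]
    · rw [if_neg hk, hz k hk]
  have hcomm : ∀ x ∈ Q, t * x = x * t := by
    intro x hx
    have h1 : plE i x * g * (plE i x)⁻¹ * g⁻¹ ∈ A := mul_mem (hn x hx g hg) (inv_mem hg)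
    have h2' : plE i x * g * (plE i x)⁻¹ * g⁻¹ = plE i (x * (t * x⁻¹ * t⁻¹)) := by
      rw [map_mul, mul_assoc, mul_assoc, ← mul_assoc g, plE_inv, conj_plE]
      congr 1
      have hU : IsU (fun k => ev i k * (t : R2)) := by
        show IsU (vscale (ev i) (t : R2))
        rw [← hpt]; exact hpU
      rw [show plE i (t * x⁻¹ * t⁻¹) = pl (fun k => ev i k * (t : R2)) hU x⁻¹ from
        (pl_conj_scale (isU_ev i) t x⁻¹ hU).symm]
      exact pl_congr (hp.symm.trans hpt) _ _ _
    rw [h2'] at h1
    obtain ⟨n, hn'⟩ := hQ2 ⟨_, hHQ _ (hAH h1)⟩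
    have hn'' : (x * (t * x⁻¹ * t⁻¹)) ^ 2 ^ n = 1 := congrArg Subtype.val hn'
    have h5 : plE (ι := ι) i (x * (t * x⁻¹ * t⁻¹)) = 1 := by
      rw [← pow_one (plE i _)]
      have hc : Nat.Coprime (2 ^ n) m := Nat.Coprime.pow_left _ (Nat.coprime_two_left.2 hodd)
      have ho1 := orderOf_dvd_of_pow_eq_one (show plE (ι := ι) i (x * (t * x⁻¹ * t⁻¹)) ^ 2 ^ n = 1 by
        rw [← map_pow, hn'', map_one])
      have ho2 := orderOf_dvd_of_pow_eq_one (hpow _ h1)
      rw [pow_one, ← orderOf_eq_one_iff]
      exact Nat.eq_one_of_dvd_coprimes hc ho1 ho2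
    rw [plE_eq, ← map_one (dia : (ι → SL2) →* U ι F), dia_apply, dia_apply] at h5
    have h6 := congrFun (mono_inj h5).1 i
    rw [Pi.mulSingle_eq_same, Pi.one_apply, ← mul_assoc, ← mul_assoc, mul_inv_eq_one,
      mul_inv_eq_iff_eq_mul] at h6
    exact h6.symm
  have hne : qd.u * qd.v ≠ qd.v * qd.u := by
    intro e
    rw [qd.hanti] at e
    exact negOne_ne_one h2 (mul_eq_right.1 e.symm)
  have ht1 : t = 1 := by
    rcases scalar_of_commute hne (hcomm _ qd.hu) (hcomm _ qd.hv) with e | e
    · exact e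
    · exfalso
      have hp' : ∀ n : ℕ, mat (g ^ n) *ᵥ ev i = vscale (ev i) ((t ^ n : SL2) : R2) := by
        intro n
        induction n with
        | zero =>
          funext k
          rw [pow_zero, mat_one, Matrix.one_mulVec, pow_zero, vscale_apply,
            Matrix.SpecialLinearGroup.coe_one, mul_one]
        | succ n ih =>
          rw [pow_succ', mat_mulVec_mul, ih, mulVec_vscale, ← hp, hpt]
          funext k
          rw [pow_succ', vscale_apply, vscale_apply, vscale_apply, Matrix.SpecialLinearGroup.coe_mul,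
            mul_assoc]
      have h := congrFun (hp' m) i
      rw [hpow g hg, mat_one, Matrix.one_mulVec, vscale_apply] at h
      simp only [ev, Pi.single_eq_same, one_mul] at h
      have h' : (t ^ m : SL2) = 1 := Subtype.ext (h.symm.trans Matrix.SpecialLinearGroup.coe_one.symm)
      obtain ⟨j, hj⟩ := hodd
      rw [e, hj, pow_succ, pow_mul, pow_two, negOne_sq, one_pow, one_mul] at h'
      exact negOne_ne_one h2 h'
  rw [hpt, ht1]
  funext k
  rw [vscale_apply, Matrix.SpecialLinearGroup.coe_one, mul_one]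

end Cfsg.Agent.Lib.SpPronormal50
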