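import Cfsg.Agent.Lib.FusionPSp4.SLTwo
import Cfsg.Agent.Lib.SLOddIndex.TwoDim
import Cfsg.Agent.Lib.SpPronormal50.Abstract
import Cfsg.Agent.Lib.SpPronormal50.Central

/-!
Quaternion Sylow 2-subgroups of `SL₂(q)`: the overgroups `L` of `Q` and the elements `a` of the
normaliser of `Q` satisfy `L = Q` or `a ∈ ⟨L, aLa⁻¹⟩`.
-/

set_option autoImplicit false
set_option linter.unusedSectionVars false
set_option linter.style.haveILetI false

namespace Cfsg.Agent.Lib.SpPronormal50

open Cfsg.Agent.Lib.PSLTwo.Sylow Cfsg.Agent.Lib.FusionPSp4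
open scoped Pointwise

universe v

/-- A quaternion subgroup. -/
structure Quat {F : Type v} [Field F] (Q : Subgroup (Matrix.SpecialLinearGroup (Fin 2) F)) where
  u : Matrix.SpecialLinearGroup (Fin 2) F
  v : Matrix.SpecialLinearGroup (Fin 2) F
  hu : u ∈ Q
  hv : v ∈ Q
  huu : u * u = negOne
  hvv : v * v = negOne
  hanti : v * u = negOne * (u * v)
  hall : ∀ z ∈ Q, InQuat u v z

variable {F : Type v} [Field F] [Fintype F]

local notation "SL2" => Matrix.SpecialLinearGroup (Fin 2) F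
local notation "R2" => Matrix (Fin 2) (Fin 2) F

omit [Fintype F] in
theorem coe_negOne : ((negOne : SL2) : R2) = -1 := by
  ext i j; fin_cases i <;> fin_cases j <;> simp

theorem inv_eq_negOne_mul {s : SL2} (hs : s * s = negOne) : s⁻¹ = negOne * s := by
  apply inv_eq_of_mul_eq_one_right
  rw [← mul_assoc, ← negOne_central s, mul_assoc, hs, negOne_sq]

/-- Either a Sylow 2-subgroup is self-normalising or it is quaternion of order eight. -/
theorem self_or_quat (hodd : Fintype.card F % 2 = 1) (Q : Sylow 2 SL2)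
    (hnc : ∃ x ∈ (Q : Subgroup SL2), ∃ y ∈ (Q : Subgroup SL2), x * y ≠ y * x) :
    (∀ h ∈ Subgroup.normalizer ((Q : Subgroup SL2) : Set SL2), h ∈ (Q : Subgroup SL2)) ∨
      Nonempty (Quat (Q : Subgroup SL2)) := by
  rcases normalizer_cases hodd Q hnc with h | ⟨u, hu, v, hv, a, b, c, d⟩
  · left
    intro g hg
    obtain ⟨s, hs, hgs⟩ := h g fun z hz => (Subgroup.mem_normalizer_iff.1 hg z).1 hz
    obtain ⟨x, hx, y, hy, hxy⟩ := hnc
    have hc : ∀ z ∈ (Q : Subgroup SL2), (s⁻¹ * g) * z = z * (s⁻¹ * g) := by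
      intro z hz
      have := hgs z hz
      calc s⁻¹ * g * z = s⁻¹ * (g * z * g⁻¹) * g := by group
        _ = _ := by rw [this]; group
    have hmem : s⁻¹ * g ∈ (Q : Subgroup SL2) := by
      rcases scalar_of_commute hxy (hc x hx) (hc y hy) with e | e <;> rw [e]
      · exact one_mem _
      · exact negOne_mem Q
    simpa using mul_mem hs hmem
  · exact Or.inr ⟨⟨u, v, hu, hv, a, b, c, d⟩⟩

namespace Quat

variable {Q : Subgroup (Matrix.SpecialLinearGroup (Fin 2) F)} (d : Quat Q)

/-- `z` commutes or anticommutes with `s`. -/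
def Pm (z s : SL2) : Prop := z * s = s * z ∨ z * s = negOne * (s * z)

theorem pm_symm {z s : SL2} (h : Pm z s) : Pm s z := by
  rcases h with h | h
  · exact Or.inl h.symm
  · right
    rw [h, ← mul_assoc, negOne_sq, one_mul]

theorem pm_mul {z z' s : SL2} (h : Pm z s) (h' : Pm z' s) : Pm (z * z') s := by
  rcases h with h | h <;> rcases h' with h' | h'
  · exact Or.inl (by rw [mul_assoc, h', ← mul_assoc, h, mul_assoc])
  · right
    calc z * z' * s = z * negOne * (s * z') := by rw [mul_assoc, h']; group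
      _ = negOne * (z * s) * z' := by rw [← negOne_central z]; group
      _ = _ := by rw [h]; group
  · right
    rw [mul_assoc, h', ← mul_assoc, h]; group
  · left
    calc z * z' * s = z * negOne * (s * z') := by rw [mul_assoc, h']; group
      _ = negOne * (z * s) * z' := by rw [← negOne_central z]; group
      _ = (negOne * negOne) * (s * z * z') := by rw [h]; group
      _ = _ := by rw [negOne_sq, one_mul, mul_assoc]

include d

theorem pm_of_mem {z s : SL2} (hz : z ∈ Q) (hs : s ∈ Q) : Pm z s := by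
  have h1 : ∀ s, Pm (1 : SL2) s := fun s => Or.inl (by simp)
  have hN : ∀ s, Pm (negOne : SL2) s := fun s => Or.inl (negOne_central s)
  have huv : Pm d.u d.v := Or.inr (by rw [d.hanti, ← mul_assoc, negOne_sq, one_mul])
  have hall : ∀ t, Pm d.u t → Pm d.v t → ∀ w ∈ Q, Pm w t := by
    intro t hu hv w hw
    obtain ⟨y, hy, hwy⟩ := d.hall w hw
    have hy' : Pm y t := by
      rcases hy with rfl | rfl | rfl | rfl
      exacts [h1 t, hu, hv, pm_mul hu hv]
    rcases hwy with rfl | rfl
    · exact hy'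
    · exact pm_mul (hN t) hy'
  refine hall s (pm_symm (hall d.u (Or.inl rfl) (pm_symm huv) s hs))
    (pm_symm (hall d.v huv (Or.inl rfl) s hs)) z hz

theorem conj_pm {z s : SL2} (hz : z ∈ Q) (hs : s ∈ Q) : z * s * z⁻¹ = s ∨ z * s * z⁻¹ = negOne * s := by
  rcases d.pm_of_mem hz hs with h | h
  · left; rw [h, mul_inv_cancel_right]
  · right; rw [h, ← mul_assoc, mul_inv_cancel_right]

theorem coe_uu : (d.u : R2) * (d.u : R2) = -1 := by
  rw [← Matrix.SpecialLinearGroup.coe_mul, d.huu, coe_negOne]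

theorem coe_vv : (d.v : R2) * (d.v : R2) = -1 := by
  rw [← Matrix.SpecialLinearGroup.coe_mul, d.hvv, coe_negOne]

theorem coe_vu : (d.v : R2) * (d.u : R2) = -((d.u : R2) * (d.v : R2)) := by
  rw [← Matrix.SpecialLinearGroup.coe_mul, d.hanti, Matrix.SpecialLinearGroup.coe_mul,
    Matrix.SpecialLinearGroup.coe_mul, coe_negOne, neg_one_mul]

theorem coe_uux (x : R2) : (d.u : R2) * ((d.u : R2) * x) = -x := by
  rw [← mul_assoc, d.coe_uu, neg_one_mul]

theorem coe_vvx (x : R2) : (d.v : R2) * ((d.v : R2) * x) = -x := by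
  rw [← mul_assoc, d.coe_vv, neg_one_mul]

theorem coe_vux (x : R2) : (d.v : R2) * ((d.u : R2) * x) = -((d.u : R2) * ((d.v : R2) * x)) := by
  rw [← mul_assoc, d.coe_vu, neg_mul, mul_assoc]

omit d in
theorem adjugate_eq_neg {s : SL2} (hs : s * s = negOne) : (s : R2).adjugate = -(s : R2) := by
  rw [← Matrix.SpecialLinearGroup.coe_inv, inv_eq_negOne_mul hs, Matrix.SpecialLinearGroup.coe_mul,
    coe_negOne, neg_one_mul]

omit d in
theorem adjugate_add_two (A B : R2) : (A + B).adjugate = A.adjugate + B.adjugate := by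
  ext i j; fin_cases i <;> fin_cases j <;> simp [Matrix.adjugate_fin_two] <;> ring

theorem uv_sq : d.u * d.v * (d.u * d.v) = negOne := by
  apply Subtype.ext
  rw [Matrix.SpecialLinearGroup.coe_mul, Matrix.SpecialLinearGroup.coe_mul, coe_negOne, mul_assoc,
    d.coe_vux, mul_neg, d.coe_uux, neg_neg, d.coe_vv]

/-- The element `(1 + u + v + uv) / 2`. -/
def omegaVal : R2 := (2 : F)⁻¹ • (1 + (d.u : R2) + (d.v : R2) + (d.u : R2) * (d.v : R2))

theorem omegaVal_det (h2 : (2 : F) ≠ 0) : d.omegaVal.det = 1 := by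
  set u := (d.u : R2) with hu
  set v := (d.v : R2) with hv
  have h : (1 + u + v + u * v) * (1 + u + v + u * v).adjugate = (4 : F) • (1 : R2) := by
    rw [adjugate_add_two, adjugate_add_two, adjugate_add_two, Matrix.adjugate_one, hu, hv,
      adjugate_eq_neg d.huu, adjugate_eq_neg d.hvv, ← Matrix.SpecialLinearGroup.coe_mul,
      adjugate_eq_neg d.uv_sq, Matrix.SpecialLinearGroup.coe_mul]
    simp only [mul_add, add_mul, mul_neg, neg_mul, mul_one, one_mul, mul_assoc, d.coe_uu, d.coe_vv,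
      d.coe_vu, d.coe_uux, d.coe_vvx, d.coe_vux, neg_neg]
    module
  rw [Matrix.mul_adjugate] at h
  have h00 := congrFun (congrFun h 0) 0
  simp at h00
  rw [omegaVal, Matrix.det_smul, Fintype.card_fin, h00]
  field_simp
  norm_num

/-- The element of order six cycling `u`, `v`, `uv`. -/
def omega (h2 : (2 : F) ≠ 0) : SL2 := ⟨d.omegaVal, d.omegaVal_det h2⟩

variable (h2 : (2 : F) ≠ 0)

theorem omega_u : d.omega h2 * d.u = d.v * d.omega h2 := by
  apply Subtype.ext
  rw [Matrix.SpecialLinearGroup.coe_mul, Matrix.SpecialLinearGroup.coe_mul]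
  show d.omegaVal * _ = _ * d.omegaVal
  rw [omegaVal, smul_mul_assoc, mul_smul_comm]
  congr 1
  simp only [mul_add, add_mul, mul_neg, neg_mul, mul_one, one_mul, mul_assoc, d.coe_uu, d.coe_vv,
    d.coe_vu, d.coe_uux, d.coe_vvx, d.coe_vux, neg_neg]
  abel

theorem omega_v : d.omega h2 * d.v = d.u * d.v * d.omega h2 := by
  apply Subtype.ext
  rw [Matrix.SpecialLinearGroup.coe_mul, Matrix.SpecialLinearGroup.coe_mul,
    Matrix.SpecialLinearGroup.coe_mul]
  show d.omegaVal * _ = _ * d.omegaVal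
  rw [omegaVal, smul_mul_assoc, mul_smul_comm]
  congr 1
  simp only [mul_add, add_mul, mul_neg, neg_mul, mul_one, one_mul, mul_assoc, d.coe_uu, d.coe_vv,
    d.coe_vu, d.coe_uux, d.coe_vvx, d.coe_vux, neg_neg]
  abel

theorem omega_uv : d.omega h2 * (d.u * d.v) = d.u * d.omega h2 := by
  apply Subtype.ext
  rw [Matrix.SpecialLinearGroup.coe_mul, Matrix.SpecialLinearGroup.coe_mul,
    Matrix.SpecialLinearGroup.coe_mul]
  show d.omegaVal * _ = _ * d.omegaVal
  rw [omegaVal, smul_mul_assoc, mul_smul_comm]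
  congr 1
  simp only [mul_add, add_mul, mul_neg, neg_mul, mul_one, one_mul, mul_assoc, d.coe_uu, d.coe_vv,
    d.coe_vu, d.coe_uux, d.coe_vvx, d.coe_vux, neg_neg]
  abel

theorem omega_cube : d.omega h2 ^ 3 = negOne := by
  apply Subtype.ext
  rw [Matrix.SpecialLinearGroup.coe_pow, coe_negOne]
  show d.omegaVal ^ 3 = _
  have hsq : d.omegaVal * d.omegaVal = d.omegaVal - 1 := by
    rw [omegaVal, smul_mul_assoc, mul_smul_comm, smul_smul]
    have h : (1 + (d.u : R2) + d.v + (d.u : R2) * d.v) * (1 + (d.u : R2) + d.v + (d.u : R2) * d.v) =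
        (2 : F) • (1 + (d.u : R2) + d.v + (d.u : R2) * d.v) - (4 : F) • 1 := by
      simp only [mul_add, add_mul, mul_neg, neg_mul, mul_one, one_mul, mul_assoc, d.coe_uu, d.coe_vv,
        d.coe_vu, d.coe_uux, d.coe_vvx, d.coe_vux, neg_neg]
      module
    rw [h, smul_sub, smul_smul, smul_smul, show (2 : F)⁻¹ * 2⁻¹ * 2 = 2⁻¹ by field_simp,
      show (2 : F)⁻¹ * 2⁻¹ * 4 = 1 by field_simp; norm_num, one_smul]
  rw [pow_succ, pow_two, hsq, sub_mul, hsq, one_mul]
  abel

end Quat

theorem negOne_mem_of_quat {Q : Subgroup SL2} (d : Quat Q) : (negOne : SL2) ∈ Q :=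
  d.huu ▸ mul_mem d.hu d.hu

namespace Quat

variable {Q : Subgroup (Matrix.SpecialLinearGroup (Fin 2) F)} (d : Quat Q) (h2 : (2 : F) ≠ 0)

include d

theorem omega_mem_normalizer : d.omega h2 ∈ Subgroup.normalizer (Q : Set SL2) := by
  have hc : ∀ z, d.omega h2 * (negOne * z) * (d.omega h2)⁻¹ = negOne * (d.omega h2 * z * (d.omega h2)⁻¹) :=
    fun z => by rw [← mul_assoc (d.omega h2), ← negOne_central (d.omega h2)]; group
  refine mem_normalizer_of_forall fun z hz => ?_
  obtain ⟨y, hy, hzy⟩ := d.hall z hz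
  have key : d.omega h2 * y * (d.omega h2)⁻¹ ∈ Q := by
    rcases hy with rfl | rfl | rfl | rfl
    · simp
    · rw [d.omega_u h2, mul_inv_cancel_right]; exact d.hv
    · rw [d.omega_v h2, mul_inv_cancel_right]; exact mul_mem d.hu d.hv
    · rw [d.omega_uv h2, mul_inv_cancel_right]; exact d.hu
  rcases hzy with rfl | rfl
  · exact key
  · rw [hc]; exact mul_mem (negOne_mem_of_quat d) key

theorem pow_three_mem (m : ℕ) : d.omega h2 ^ (3 * m) ∈ Q := by
  rw [pow_mul, d.omega_cube h2]
  exact pow_mem (negOne_mem_of_quat d) m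

end Quat

/-- The normaliser of a quaternion Sylow subgroup. -/
theorem normalizer_quat (hodd : Fintype.card F % 2 = 1) (Q : Sylow 2 SL2)
    (d : Quat (Q : Subgroup SL2)) (h2 : (2 : F) ≠ 0) {g : SL2}
    (hg : g ∈ Subgroup.normalizer ((Q : Subgroup SL2) : Set SL2)) :
    ∃ q ∈ (Q : Subgroup SL2), ∃ e : ℕ, g = q * d.omega h2 ^ e := by
  let K : Subgroup SL2 := Subgroup.zpowers (d.omega h2)
  have hle : K ≤ Subgroup.normalizer ((Q : Subgroup SL2) : Set SL2) :=
    Subgroup.zpowers_le.2 (d.omega_mem_normalizer h2)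
  have hmem : g ∈ (Q : Subgroup SL2) ⊔ K := by
    have hN : (negOne : SL2) * d.u ∈ (Q : Subgroup SL2) := mul_mem (negOne_mem Q) d.hu
    refine quat_normalizer hodd Q (u := negOne * d.u) (v := d.v) hN d.hv ?_ d.hvv ?_ ?_
      (ω := d.omega h2) ?_ ?_ _ le_sup_left (Subgroup.mem_sup_right (Subgroup.mem_zpowers _)) g
      (fun z hz => (Subgroup.mem_normalizer_iff.1 hg z).1 hz)
    · rw [mul_assoc, ← mul_assoc d.u, ← negOne_central d.u, ← mul_assoc, ← mul_assoc, negOne_sq, one_mul,
        d.huu]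
    · rw [← mul_assoc d.v, ← negOne_central d.v, mul_assoc negOne d.v, d.hanti, mul_assoc negOne d.u]
    · intro z hz
      obtain ⟨y, hy, hzy⟩ := d.hall z hz
      rcases hy with rfl | rfl | rfl | rfl
      · exact ⟨1, Or.inl rfl, hzy⟩
      · refine ⟨negOne * d.u, Or.inr (Or.inl rfl), ?_⟩
        rw [← mul_assoc, negOne_sq, one_mul]
        exact hzy.symm
      · exact ⟨d.v, Or.inr (Or.inr (Or.inl rfl)), hzy⟩
      · refine ⟨negOne * d.u * d.v, Or.inr (Or.inr (Or.inr rfl)), ?_⟩
        rw [mul_assoc negOne d.u, ← mul_assoc negOne negOne, negOne_sq, one_mul]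
        exact hzy.symm
    · rw [← mul_assoc, ← negOne_central (d.omega h2), mul_assoc, d.omega_u h2]
    · rw [d.omega_v h2, mul_assoc negOne d.u, ← mul_assoc negOne, ← mul_assoc negOne negOne, negOne_sq,
        one_mul]
  have hmem' : g ∈ ((Q : Subgroup SL2) : Set SL2) * (K : Set SL2) := by
    rw [← Subgroup.coe_mul_of_right_le_normalizer_left _ _ hle]
    exact hmem
  obtain ⟨q, hq, w, hw, rfl⟩ := Set.mem_mul.1 hmem'
  obtain ⟨e, rfl⟩ := (mem_powers_iff_mem_zpowers.2 hw : w ∈ Submonoid.powers (d.omega h2))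
  exact ⟨q, hq, e, rfl⟩

/-- The normaliser of a quaternion Sylow subgroup is abelian modulo it. -/
theorem commutator_quat (hodd : Fintype.card F % 2 = 1) (Q : Sylow 2 SL2)
    (d : Quat (Q : Subgroup SL2)) (h2 : (2 : F) ≠ 0) {a b : SL2}
    (ha : a ∈ Subgroup.normalizer ((Q : Subgroup SL2) : Set SL2))
    (hb : b ∈ Subgroup.normalizer ((Q : Subgroup SL2) : Set SL2)) :
    a * b * a⁻¹ * b⁻¹ ∈ (Q : Subgroup SL2) := by
  obtain ⟨q, hq, i, rfl⟩ := normalizer_quat hodd Q d h2 ha
  obtain ⟨r, hr, j, rfl⟩ := normalizer_quat hodd Q d h2 hb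
  have hn : ∀ k : ℕ, ∀ z ∈ (Q : Subgroup SL2), d.omega h2 ^ k * z * (d.omega h2 ^ k)⁻¹ ∈ (Q : Subgroup SL2) :=
    fun k z hz => (Subgroup.mem_normalizer_iff.1 (pow_mem (d.omega_mem_normalizer h2) k) z).1 hz
  have e : q * d.omega h2 ^ i * (r * d.omega h2 ^ j) * (q * d.omega h2 ^ i)⁻¹ * (r * d.omega h2 ^ j)⁻¹ =
      q * (d.omega h2 ^ i * r * (d.omega h2 ^ i)⁻¹) *
        (d.omega h2 ^ j * q⁻¹ * (d.omega h2 ^ j)⁻¹) * r⁻¹ := by
    have hc : d.omega h2 ^ i * d.omega h2 ^ j = d.omega h2 ^ j * d.omega h2 ^ i :=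
      ((Commute.refl _).pow_pow i j).eq
    calc _ = q * (d.omega h2 ^ i * r) * (d.omega h2 ^ j * (d.omega h2 ^ i)⁻¹) * q⁻¹ *
          (d.omega h2 ^ j)⁻¹ * r⁻¹ := by group
      _ = q * (d.omega h2 ^ i * r) * ((d.omega h2 ^ i)⁻¹ * d.omega h2 ^ j) * q⁻¹ *
          (d.omega h2 ^ j)⁻¹ * r⁻¹ := by
        rw [show d.omega h2 ^ j * (d.omega h2 ^ i)⁻¹ = (d.omega h2 ^ i)⁻¹ * d.omega h2 ^ j from
          ((Commute.refl _).pow_pow j i).inv_right.eq]
      _ = _ := by group
  rw [e]
  exact mul_mem (mul_mem (mul_mem hq (hn _ r hr)) (hn _ _ (inv_mem hq))) (inv_mem hr)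

/-- A conjugate commuting with the element is the element or its inverse. -/
theorem conj_eq_or_inv (h2 : (2 : F) ≠ 0) {g q : SL2} (hg : NonScalar g) (hq : q * q = negOne)
    (hc : (q * g * q⁻¹) * g = g * (q * g * q⁻¹)) : q * g * q⁻¹ = g ∨ q * g * q⁻¹ = g⁻¹ := by
  obtain ⟨y, y1, y2, y3⟩ := commute_param hg hc
  set g' := q * g * q⁻¹ with hg'
  have htr : slTr g' = slTr g := slTr_conj g q
  simp only [slTr] at htr
  have h22 : ∀ {a b : F}, 2 * a = 2 * b → a = b := fun h => mul_left_cancel₀ h2 h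
  set α := g'.1 0 0 - y * g.1 0 0 with hα
  have hlin : (g' : R2) = α • (1 : R2) + y • (g : R2) := by
    ext i j
    fin_cases i <;> fin_cases j <;> simp [hα]
    · exact y1
    · exact y2
    · linear_combination -y3
  have hsq : q * g' * q⁻¹ = g := by
    rw [hg']
    calc q * (q * g * q⁻¹) * q⁻¹ = (q * q) * g * (q * q)⁻¹ := by group
      _ = g := by rw [hq, negOne_central g, mul_inv_cancel_right]
  have hlin2 : (g : R2) = α • (1 : R2) + y • (g' : R2) := by
    conv_lhs => rw [← hsq]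
    rw [Matrix.SpecialLinearGroup.coe_mul, Matrix.SpecialLinearGroup.coe_mul, hlin, mul_add, add_mul,
      mul_smul_comm, smul_mul_assoc, mul_one, mul_smul_comm, smul_mul_assoc,
      ← Matrix.SpecialLinearGroup.coe_mul q q⁻¹, mul_inv_cancel, Matrix.SpecialLinearGroup.coe_one,
      ← Matrix.SpecialLinearGroup.coe_mul q g, ← Matrix.SpecialLinearGroup.coe_mul, ← hg', hlin]

  rw [hlin] at hlin2
  have e01 := congrFun (congrFun hlin2 0) 1
  have e10 := congrFun (congrFun hlin2 1) 0
  have e00 := congrFun (congrFun hlin2 0) 0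
  have e11 := congrFun (congrFun hlin2 1) 1
  simp at e01 e10 e00 e11
  have hy : y * y = 1 := by
    rcases hg with h | h | h
    · exact mul_right_cancel₀ h (by linear_combination -e01)
    · exact mul_right_cancel₀ h (by linear_combination -e10)
    · exact mul_right_cancel₀ (sub_ne_zero.2 h) (by linear_combination e11 - e00)
  rcases mul_self_eq_one_iff.1 hy with rfl | rfl
  · left
    have hα0 : α = 0 := h22 (by linear_combination -e00)
    apply Subtype.ext
    rw [hlin, hα0, zero_smul, zero_add, one_smul]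
  · right
    apply Subtype.ext
    rw [hlin, Matrix.SpecialLinearGroup.coe_inv, Matrix.adjugate_fin_two]
    have ht : α = g.1 0 0 + g.1 1 1 := h22 (by linear_combination htr + y3 + 2 * hα)
    ext i j
    fin_cases i <;> fin_cases j <;> simp [ht]

/-- An element of odd order other than one is not scalar. -/
theorem nonScalar_of_orderOf_odd (h2 : (2 : F) ≠ 0) {g : SL2} (hg : g ≠ 1) (hodd : Odd (orderOf g)) :
    NonScalar g := by
  rw [nonScalar_iff h2]
  refine ⟨hg, fun e => ?_⟩
  rw [e, orderOf_negOne h2] at hodd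
  exact absurd hodd (by decide)

namespace Quat

variable {Q : Subgroup (Matrix.SpecialLinearGroup (Fin 2) F)} (d : Quat Q)

include d

/-- An element preserving two different lines is in `Q`. -/
theorem mem_of_lines {w w' y : SL2} (hw : w ∈ Q) (hw' : w' ∈ Q) (hww : w * w = negOne)
    (hww' : w' * w' = negOne) (hne : w * w' ≠ w' * w)
    (h : y * w * y⁻¹ = w ∨ y * w * y⁻¹ = negOne * w)
    (h' : y * w' * y⁻¹ = w' ∨ y * w' * y⁻¹ = negOne * w') : y ∈ Q := by
  have hN := negOne_mem_of_quat d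
  have hNc : ∀ r : SL2, negOne * r = r * negOne := negOne_central
  have hflip : w * w' = negOne * (w' * w) := (d.pm_of_mem hw hw').resolve_left hne
  have hflip' : w' * w = negOne * (w * w') := (d.pm_of_mem hw' hw).resolve_left (Ne.symm hne)
  have fin : ∀ z : SL2, z * w = w * z → z * w' = w' * z → z ∈ Q := fun z a b => by
    rcases scalar_of_commute hne a b with e | e <;> rw [e]
    · exact one_mem _
    · exact hN
  have sw : ∀ {z s : SL2}, z * s * z⁻¹ = negOne * s → z * s = negOne * (s * z) := by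
    intro z s e
    rw [← mul_assoc, ← e, inv_mul_cancel_right]
  rcases h with h | h <;> rcases h' with h' | h'
  · exact fin y (mul_inv_eq_iff_eq_mul.1 h) (mul_inv_eq_iff_eq_mul.1 h')
  · have : w * y ∈ Q := fin _ (by rw [mul_assoc, mul_inv_eq_iff_eq_mul.1 h]) (by
      calc w * y * w' = w * negOne * (w' * y) := by rw [mul_assoc, sw h']; group
        _ = negOne * (w * w') * y := by rw [← hNc w]; group
        _ = (negOne * negOne) * (w' * (w * y)) := by rw [hflip]; group
        _ = _ := by rw [negOne_sq, one_mul])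
    simpa using mul_mem (inv_mem hw) this
  · have : w' * y ∈ Q := fin _ (by
      calc w' * y * w = w' * negOne * (w * y) := by rw [mul_assoc, sw h]; group
        _ = negOne * (w' * w) * y := by rw [← hNc w']; group
        _ = (negOne * negOne) * (w * (w' * y)) := by rw [hflip']; group
        _ = _ := by rw [negOne_sq, one_mul]) (by rw [mul_assoc, mul_inv_eq_iff_eq_mul.1 h'])
    simpa using mul_mem (inv_mem hw') this
  · have : w' * (w * y) ∈ Q := fin _ (by
      calc w' * (w * y) * w = w' * (w * negOne) * (w * y) := by rw [mul_assoc w', mul_assoc w y, sw h]; group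
        _ = negOne * (w' * w) * (w * y) := by rw [← hNc w, ← mul_assoc w' negOne, ← hNc w']; group
        _ = (negOne * negOne) * (w * (w' * (w * y))) := by rw [hflip']; group
        _ = _ := by rw [negOne_sq, one_mul]) (by
      calc w' * (w * y) * w' = w' * (w * negOne) * (w' * y) := by rw [mul_assoc w', mul_assoc w y, sw h']; group
        _ = negOne * w' * (w * w') * y := by rw [← hNc w, ← mul_assoc w' negOne, ← hNc w']; group
        _ = negOne * (w' * negOne) * (w' * (w * y)) := by rw [hflip]; group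
        _ = (negOne * negOne) * (w' * (w' * (w * y))) := by rw [← hNc w']; group
        _ = _ := by rw [negOne_sq, one_mul])
    simpa using mul_mem (inv_mem hw) (mul_mem (inv_mem hw') this)

/-- The elements of the normaliser outside `Q` move every line. -/
theorem moves_line (h2 : (2 : F) ≠ 0) {e : ℕ} (he : e % 3 ≠ 0) {w : SL2}
    (hw : w = d.u ∨ w = d.v ∨ w = d.u * d.v) (ε : SL2) (hε : ε = 1 ∨ ε = negOne) :
    d.omega h2 ^ e * w ≠ ε * w * d.omega h2 ^ e := by
  set o := d.omega h2 with ho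
  have hεc : ∀ r, ε * r = r * ε := by rcases hε with rfl | rfl; · simp
                                      · exact negOne_central
  have hnc : d.u * d.v ≠ d.v * d.u := not_commute_of_anti h2 d.hanti
  -- the images
  have cyc : ∀ {w₁ w₂ : SL2}, o * w₁ = w₂ * o → ∀ k : ℕ, o ^ (k + 1) * w₁ = o ^ k * w₂ * o := by
    intro w₁ w₂ h k
    rw [pow_succ, mul_assoc, h, ← mul_assoc]
  have h3 : ∀ m : ℕ, ∀ x : SL2, o ^ (3 * m) * x = x * o ^ (3 * m) := by
    intro m x
    rw [ho, pow_mul, d.omega_cube h2]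
    exact ((show Commute (negOne : SL2) x from negOne_central x).pow_left m).eq
  have e1 : ∀ w₁ w₂ : SL2, o * w₁ = w₂ * o → w₁ * w₂ ≠ w₂ * w₁ → o ^ e * w₁ = ε * w₁ * o ^ e →
      e % 3 = 1 → False := by
    intro w₁ w₂ h hn heq he1
    have hee : o ^ e = o ^ (3 * (e / 3)) * o := by rw [← pow_succ]; congr 1; omega
    rw [hee, mul_assoc, h, ← mul_assoc, h3, mul_assoc w₂, ← hee] at heq
    have : w₂ = ε * w₁ := mul_right_cancel heq
    refine hn ?_
    rw [this, ← mul_assoc, ← hεc w₁]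
  have e2 : ∀ w₁ w₂ w₃ : SL2, o * w₁ = w₂ * o → o * w₂ = w₃ * o → w₁ * w₃ ≠ w₃ * w₁ →
      o ^ e * w₁ = ε * w₁ * o ^ e → e % 3 = 2 → False := by
    intro w₁ w₂ w₃ h h' hn heq he2
    have hee : o ^ e = o ^ (3 * (e / 3)) * o * o := by rw [← pow_succ, ← pow_succ]; congr 1; omega
    rw [hee, mul_assoc, h, ← mul_assoc, mul_assoc (o ^ _), h', ← mul_assoc, h3, mul_assoc w₃,
      mul_assoc w₃, ← hee] at heq
    have : w₃ = ε * w₁ := mul_right_cancel heq
    refine hn ?_
    rw [this, ← mul_assoc, ← hεc w₁]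
  have k1 : d.u * (d.u * d.v) ≠ (d.u * d.v) * d.u := fun h =>
    hnc (mul_left_cancel (a := d.u) (h.trans (mul_assoc _ _ _)))
  have k2 : d.v * (d.u * d.v) ≠ (d.u * d.v) * d.v := fun h =>
    hnc (mul_right_cancel (b := d.v) ((mul_assoc _ _ _).trans h)).symm
  intro heq
  have hcases : e % 3 = 1 ∨ e % 3 = 2 := by omega
  rcases hw with rfl | rfl | rfl <;> rcases hcases with he' | he'
  · exact e1 _ _ (d.omega_u h2) hnc heq he'
  · exact e2 _ _ _ (d.omega_u h2) (d.omega_v h2) k1 heq he'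
  · exact e1 _ _ (d.omega_v h2) k2 heq he'
  · exact e2 _ _ _ (d.omega_v h2) (d.omega_uv h2) (Ne.symm hnc) heq he'
  · exact e1 _ _ (d.omega_uv h2) (Ne.symm k1) heq he'
  · exact e2 _ _ _ (d.omega_uv h2) (d.omega_u h2) (Ne.symm k2) heq he'

end Quat

/-- The overgroups of a quaternion Sylow 2-subgroup: either `L = Q`, or `a` lies in `⟨L, aLa⁻¹⟩`. -/
theorem mem_sup_cj (hodd : Fintype.card F % 2 = 1) (Q : Sylow 2 SL2) (d : Quat (Q : Subgroup SL2))
    (L : Subgroup SL2) (hQL : (Q : Subgroup SL2) ≤ L) (hne : L ≠ (Q : Subgroup SL2)) {a : SL2}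
    (ha : a ∈ Subgroup.normalizer ((Q : Subgroup SL2) : Set SL2)) : a ∈ L ⊔ cj L a := by
  classical
  haveI : Fact (Nat.Prime 2) := ⟨Nat.prime_two⟩
  have h2 : (2 : F) ≠ 0 := two_ne_zero_of_odd hodd
  have hN : (negOne : SL2) ∈ (Q : Subgroup SL2) := negOne_mem Q
  set X := L ⊔ cj L a with hX
  have hQX : (Q : Subgroup SL2) ≤ X := hQL.trans le_sup_left
  by_contra haX
  obtain ⟨qa, hqa, e, hae⟩ := normalizer_quat hodd Q d h2 ha
  have he3 : e % 3 ≠ 0 := by
    intro h0
    apply haX
    rw [hae]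
    refine hQX (mul_mem hqa ?_)
    rw [show e = 3 * (e / 3) by omega]
    exact d.pow_three_mem h2 _
  -- `X` meets the normaliser in `Q`
  have hXN : ∀ g ∈ X, g ∈ Subgroup.normalizer ((Q : Subgroup SL2) : Set SL2) → g ∈ (Q : Subgroup SL2) := by
    intro g hgX hgN
    obtain ⟨q, hq, k, rfl⟩ := normalizer_quat hodd Q d h2 hgN
    by_cases hk : k % 3 = 0
    · refine mul_mem hq ?_
      rw [show k = 3 * (k / 3) by omega]
      exact d.pow_three_mem h2 _
    exfalso
    have hok : d.omega h2 ^ k ∈ X := by simpa using mul_mem (inv_mem (hQX hq)) hgX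
    have hk3 : ∀ m : ℕ, d.omega h2 ^ (3 * m) ∈ X := fun m => hQX (d.pow_three_mem h2 m)
    have ho : d.omega h2 ∈ X := by
      rcases (show k % 3 = 1 ∨ k % 3 = 2 by omega) with h | h
      · have : d.omega h2 ^ k = d.omega h2 ^ (3 * (k / 3)) * d.omega h2 := by rw [← pow_succ]; congr 1; omega
        rw [this] at hok
        simpa using mul_mem (inv_mem (hk3 (k / 3))) hok
      · have : d.omega h2 ^ (2 * k) = d.omega h2 ^ (3 * ((2 * k) / 3)) * d.omega h2 := by
          rw [← pow_succ]; congr 1; omega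
        have hok2 : d.omega h2 ^ (2 * k) ∈ X := by rw [two_mul, pow_add]; exact mul_mem hok hok
        rw [this] at hok2
        simpa using mul_mem (inv_mem (hk3 ((2 * k) / 3))) hok2
    exact haX (hae ▸ mul_mem (hQX hqa) (pow_mem ho e))
  have hcent : ∀ x : SL2, x * negOne = negOne * x := fun x => (negOne_central x).symm
  -- no fusion between the lines
  have fus : ∀ s ∈ (Q : Subgroup SL2), ∀ g ∈ X, g * s * g⁻¹ ∈ (Q : Subgroup SL2) →
      g * s * g⁻¹ = s ∨ g * s * g⁻¹ = negOne * s := by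
    intro s hs g hgX hs'
    set s' := g * s * g⁻¹ with hs'def
    let Y : Subgroup SL2 :=
      { carrier := {y | y ∈ X ∧ (y * s' * y⁻¹ = s' ∨ y * s' * y⁻¹ = negOne * s')}
        one_mem' := ⟨one_mem _, Or.inl (by simp)⟩
        mul_mem' := fun {x y} hx hy => ⟨mul_mem hx.1 hy.1, by
          have e : x * y * s' * (x * y)⁻¹ = x * (y * s' * y⁻¹) * x⁻¹ := by group
          rw [e]
          rcases hy.2 with h | h <;> rw [h]
          · exact hx.2
          · rw [← mul_assoc x, hcent x, mul_assoc negOne, mul_assoc negOne]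
            rcases hx.2 with h' | h' <;> rw [h']
            · exact Or.inr rfl
            · exact Or.inl (by rw [← mul_assoc, negOne_sq, one_mul])⟩
        inv_mem' := fun {x} hx => ⟨inv_mem hx.1, by
          rcases hx.2 with h | h
          · left; conv_lhs => rw [← h]
            group
          · right
            calc x⁻¹ * s' * x⁻¹⁻¹ = x⁻¹ * (negOne * negOne) * s' * x := by rw [negOne_sq]; group
              _ = negOne * (x⁻¹ * (negOne * s') * x) := by
                rw [← mul_assoc x⁻¹ negOne negOne, hcent x⁻¹]; group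
              _ = negOne * (x⁻¹ * (x * s' * x⁻¹) * x) := by rw [← h]
              _ = negOne * s' := by group⟩ }
    have hQY : (Q : Subgroup SL2) ≤ Y := fun q hq => ⟨hQX hq, d.conj_pm hq hs'⟩
    have hgQY : cj (Q : Subgroup SL2) g ≤ Y := by
      intro z hz
      obtain ⟨q, hq, rfl⟩ := mem_cj.1 hz
      refine ⟨mul_mem (mul_mem hgX (hQX hq)) (inv_mem hgX), ?_⟩
      have e : g * q * g⁻¹ * s' * (g * q * g⁻¹)⁻¹ = g * (q * s * q⁻¹) * g⁻¹ := by rw [hs'def]; group
      rw [e]
      rcases d.conj_pm hq hs with h | h <;> rw [h]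
      · exact Or.inl rfl
      · exact Or.inr (by rw [← mul_assoc g, hcent g]; rw [hs'def]; group)
    let P : Sylow 2 SL2 := g • Q
    have hP : (P : Subgroup SL2) = cj (Q : Subgroup SL2) g := Sylow.coe_subgroup_smul ..
    obtain ⟨y, hy⟩ := MulAction.exists_smul_eq ↥Y (Q.subtype hQY) (P.subtype (hP ▸ hgQY))
    have hyg : ((y : SL2) • Q : Sylow 2 SL2) = P := by
      have hle : (((y : SL2) • Q : Sylow 2 SL2) : Subgroup SL2) ≤ Y := by
        rw [Sylow.coe_subgroup_smul]
        rintro _ ⟨z, hz, rfl⟩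
        exact Y.mul_mem (Y.mul_mem y.2 (hQY hz)) (Y.inv_mem y.2)
      refine Sylow.subtype_injective (hP := hle) (hQ := hP ▸ hgQY) ?_
      rw [← hy, Sylow.smul_subtype]
      rfl
    have hn : (y : SL2)⁻¹ * g ∈ Subgroup.normalizer ((Q : Subgroup SL2) : Set SL2) :=
      Sylow.smul_eq_iff_mem_normalizer.mp (by rw [mul_smul, show g • Q = P from rfl, ← hyg, inv_smul_smul])
    have hq := hXN _ (mul_mem (inv_mem y.2.1) hgX) hn
    obtain ⟨q, hqQ, hgq⟩ : ∃ q ∈ (Q : Subgroup SL2), g = y * q := ⟨_, hq, by group⟩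
    have hy' := (Y.inv_mem y.2).2
    have e : (y : SL2)⁻¹ * s' * (y : SL2)⁻¹⁻¹ = q * s * q⁻¹ := by rw [hs'def, hgq]; group
    rw [e] at hy'
    have hsq := d.conj_pm hqQ hs
    rcases hy' with h | h <;> rcases hsq with h' | h' <;> rw [h'] at h
    · exact Or.inl h.symm
    · exact Or.inr h.symm
    · right
      rw [h, ← mul_assoc, negOne_sq, one_mul]
    · exact Or.inl (mul_left_cancel h).symm
  -- a line preserved by `X`
  have hline : ∃ w, (w = d.u ∨ w = d.v ∨ w = d.u * d.v) ∧
      ∀ y ∈ X, y * w * y⁻¹ = w ∨ y * w * y⁻¹ = negOne * w := by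
    by_cases hA : ∃ A : Subgroup X, A.Normal ∧ (∀ a ∈ A, ∀ b ∈ A, a * b = b * a) ∧ Odd (Nat.card A) ∧ A ≠ ⊥
    · obtain ⟨A, hAn, hAc, hAo, hAne⟩ := hA
      obtain ⟨⟨g, hgX⟩, hgA, hg1⟩ := (Subgroup.bot_or_exists_ne_one A).resolve_left hAne
      have hgo : Odd (orderOf g) := by
        rw [← Subgroup.orderOf_mk g hgX]
        exact hAo.of_dvd_nat (Subgroup.orderOf_dvd_natCard A hgA)
      have hns : NonScalar g := nonScalar_of_orderOf_odd h2 (fun h => hg1 (Subtype.ext h)) hgo
      have hconj : ∀ y ∈ X, (y * g * y⁻¹) * g = g * (y * g * y⁻¹) := fun y hy =>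
        congrArg Subtype.val (hAc _ (hAn.conj_mem _ hgA ⟨y, hy⟩) _ hgA)
      have hq : ∀ q ∈ (Q : Subgroup SL2), q * q = negOne → q * g = g * q ∨ q * g * q⁻¹ = g⁻¹ := fun q hq hqq =>
        (conj_eq_or_inv h2 hns hqq (hconj q (hQX hq))).imp mul_inv_eq_iff_eq_mul.1 id
      obtain ⟨w, hw, hwg⟩ : ∃ w, (w = d.u ∨ w = d.v ∨ w = d.u * d.v) ∧ w * g = g * w := by
        rcases hq _ d.hu d.huu with h | h
        · exact ⟨_, Or.inl rfl, h⟩
        rcases hq _ d.hv d.hvv with h' | h'
        · exact ⟨_, Or.inr (Or.inl rfl), h'⟩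
        refine ⟨_, Or.inr (Or.inr rfl), mul_inv_eq_iff_eq_mul.1 ?_⟩
        calc d.u * d.v * g * (d.u * d.v)⁻¹ = d.u * (d.v * g * d.v⁻¹) * d.u⁻¹ := by group
          _ = (d.u * g * d.u⁻¹)⁻¹ := by rw [h']; group
          _ = g := by rw [h, inv_inv]
      have hwQ : w ∈ (Q : Subgroup SL2) := by
        rcases hw with rfl | rfl | rfl
        exacts [d.hu, d.hv, mul_mem d.hu d.hv]
      have hww : w * w = negOne := by
        rcases hw with rfl | rfl | rfl
        exacts [d.huu, d.hvv, d.uv_sq]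
      refine ⟨w, hw, fun y hy => ?_⟩
      have hwns : NonScalar w := Cfsg.Agent.Lib.SLOddIndex.nonScalar_axis h2 hww
      have htr : slTr w = 0 := (Cfsg.Agent.Lib.SLOddIndex.tr_zero_of_sq h2 hww).1
      have hgne : y * g * y⁻¹ ≠ 1 := fun h => hg1 (Subtype.ext (show g = 1 by simpa using h))
      have hns' : NonScalar (y * g * y⁻¹) := nonScalar_of_orderOf_odd h2 hgne (by
        rw [show y * g * y⁻¹ = MulAut.conj y g from rfl, MulEquiv.orderOf_eq]
        exact hgo)
      have c1 : (y * w * y⁻¹) * (y * g * y⁻¹) = (y * g * y⁻¹) * (y * w * y⁻¹) := by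
        calc _ = y * (w * g) * y⁻¹ := by group
          _ = _ := by rw [hwg]; group
      have c2 : (y * w * y⁻¹) * g = g * (y * w * y⁻¹) := commute_of_commute hns' c1 (hconj y hy).symm
      have c3 : (y * w * y⁻¹) * w = w * (y * w * y⁻¹) := commute_of_commute hns c2 hwg
      rcases eq_or_eq_inv h2 hwns (by rw [htr]; norm_num; exact fun h => h2 (by
          have : (2 : F) * 2 = 0 := by norm_num; exact h.symm
          rcases mul_eq_zero.1 this with h | h <;> exact h)) c3 (slTr_conj w y) with h | h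
      · exact Or.inl h
      · exact Or.inr (by rw [h, inv_eq_negOne_mul hww])
    · push Not at hA
      refine ⟨d.u, Or.inl rfl, fun y hy => ?_⟩
      let C : Subgroup X := (Subgroup.zpowers (negOne : SL2)).subgroupOf X
      have hzN : ∀ z ∈ Subgroup.zpowers (negOne : SL2), z = 1 ∨ z = negOne := by
        rintro _ ⟨i, rfl⟩
        have hsq : (negOne : SL2) ^ (2 : ℤ) = 1 := by rw [zpow_two, negOne_sq]
        rcases Int.even_or_odd i with ⟨l, rfl⟩ | ⟨l, rfl⟩
        · left; show (negOne : SL2) ^ (l + l) = 1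
          rw [← two_mul, zpow_mul, hsq, one_zpow]
        · right; show (negOne : SL2) ^ (2 * l + 1) = negOne
          rw [zpow_add_one, zpow_mul, hsq, one_zpow, one_mul]
      have hCc : C ≤ Subgroup.center X := fun c hc => Subgroup.mem_center_iff.2 fun x => Subtype.ext (by
        show (x : SL2) * c = c * x
        rcases hzN _ hc with h | h <;> rw [show ((c : X) : SL2) = _ from h]
        · simp
        · exact hcent x)
      have h := central_mod C hCc (fun c hc => Subtype.ext (by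
          show (c : SL2) * c = 1
          rcases hzN _ hc with h | h <;> rw [show ((c : X) : SL2) = _ from h]
          · simp
          · exact negOne_sq))
        ⟨d.u, hQX d.hu⟩ (show d.u * d.u ∈ Subgroup.zpowers (negOne : SL2) by
          rw [d.huu]; exact Subgroup.mem_zpowers _)
        (fun hc => by
          rcases hzN _ hc with h | h
          · have := d.huu; rw [show d.u = 1 from h, one_mul] at this; exact negOne_ne_one h2 this.symm
          · have := d.huu; rw [show d.u = negOne from h, negOne_sq] at this; exact negOne_ne_one h2 this.symm)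
        ?_ hA ⟨y, hy⟩
      · have h' : y * d.u * y⁻¹ * d.u⁻¹ = 1 ∨ y * d.u * y⁻¹ * d.u⁻¹ = negOne := hzN _ h
        rcases h' with h' | h'
        · exact Or.inl (mul_inv_eq_one.1 h')
        · exact Or.inr (mul_inv_eq_iff_eq_mul.1 h')
      · -- conjugates generating a 2-group lie on the same line
        intro g hp
        obtain ⟨P, hP⟩ := hp.exists_le_sylow
        obtain ⟨c, hc⟩ := MulAction.exists_smul_eq ↥X P (Q.subtype hQX)
        have hin : ∀ z ∈ (P : Subgroup X), (c : SL2) * z * (c : SL2)⁻¹ ∈ (Q : Subgroup SL2) := by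
          intro z hz
          have h1 : c * z * c⁻¹ ∈ ((c • P : Sylow 2 X) : Subgroup X) := by
            rw [Sylow.coe_subgroup_smul]; exact ⟨z, hz, rfl⟩
          rw [hc, Sylow.coe_subtype] at h1
          exact h1
        have h1 := hin _ (hP (Subgroup.subset_closure (Or.inl rfl)))
        have h3 := hin _ (hP (Subgroup.subset_closure (Or.inr rfl)))
        simp only [Subgroup.coe_mul, Subgroup.coe_inv] at h1 h3
        have e3 : (c : SL2) * ((g : SL2) * d.u * (g : SL2)⁻¹) * (c : SL2)⁻¹ =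
            ((c : SL2) * g) * d.u * ((c : SL2) * g)⁻¹ := by group
        rw [e3] at h3
        have f1 := fus d.u d.hu c c.2 h1
        have f3 := fus d.u d.hu _ (mul_mem c.2 g.2) h3
        show (g : SL2) * d.u * (g : SL2)⁻¹ * d.u⁻¹ ∈ Subgroup.zpowers (negOne : SL2)
        have ecu : ∃ ε ∈ Subgroup.zpowers (negOne : SL2), (c : SL2) * d.u * (c : SL2)⁻¹ = ε * d.u ∧ ∀ r, ε * r = r * ε := by
          rcases f1 with f | f
          · exact ⟨1, one_mem _, by rw [f, one_mul], by simp⟩
          · exact ⟨negOne, Subgroup.mem_zpowers _, f, negOne_central⟩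
        have ecg : ∃ δ ∈ Subgroup.zpowers (negOne : SL2), ((c : SL2) * g) * d.u * ((c : SL2) * g)⁻¹ = δ * d.u ∧ ∀ r, δ * r = r * δ := by
          rcases f3 with f | f
          · exact ⟨1, one_mem _, by rw [f, one_mul], by simp⟩
          · exact ⟨negOne, Subgroup.mem_zpowers _, f, negOne_central⟩
        obtain ⟨ε, hε, eε, hεc⟩ := ecu
        obtain ⟨δ, hδ, eδ, hδc⟩ := ecg
        have key : (g : SL2) * d.u * (g : SL2)⁻¹ * d.u⁻¹ = δ * ε⁻¹ := by
          have e4 : (g : SL2) * d.u * (g : SL2)⁻¹ = (c : SL2)⁻¹ * (δ * d.u) * c := by rw [← eδ]; group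
          have e5 : (c : SL2)⁻¹ * d.u * c = ε⁻¹ * d.u := by
            rw [eq_inv_mul_iff_mul_eq, show ε * ((c : SL2)⁻¹ * d.u * c) = (ε * (c : SL2)⁻¹) * d.u * c by group,
              hεc, show (c : SL2)⁻¹ * ε * d.u * c = (c : SL2)⁻¹ * (ε * d.u) * c by group, ← eε]
            group
          rw [e4, show (c : SL2)⁻¹ * (δ * d.u) * c = ((c : SL2)⁻¹ * δ) * d.u * c by group, ← hδc,
            show δ * (c : SL2)⁻¹ * d.u * c = δ * ((c : SL2)⁻¹ * d.u * c) by group, e5]
          group
        rw [key]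
        exact mul_mem hδ (inv_mem hε)
  -- `L` preserves that line and its image under `a⁻¹`
  obtain ⟨w, hw, hwX⟩ := hline
  have hwQ : w ∈ (Q : Subgroup SL2) := by
    rcases hw with rfl | rfl | rfl
    exacts [d.hu, d.hv, mul_mem d.hu d.hv]
  have hww : w * w = negOne := by
    rcases hw with rfl | rfl | rfl
    exacts [d.huu, d.hvv, d.uv_sq]
  set w' := a⁻¹ * w * a with hw'
  have hw'Q : w' ∈ (Q : Subgroup SL2) :=
    (Subgroup.mem_normalizer_iff.1 ha w').2 (by rw [hw']; simpa [mul_assoc] using hwQ)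
  have hww' : w' * w' = negOne := by
    rw [hw', show a⁻¹ * w * a * (a⁻¹ * w * a) = a⁻¹ * (w * w) * a by group, hww, hcent, mul_assoc,
      inv_mul_cancel, mul_one]
  have hL : ∀ y ∈ L, y * w' * y⁻¹ = w' ∨ y * w' * y⁻¹ = negOne * w' := by
    intro y hy
    have hy' := hwX (a * y * a⁻¹) (Subgroup.mem_sup_right (conj_mem_cj hy a))
    have e : y * w' * y⁻¹ = a⁻¹ * ((a * y * a⁻¹) * w * (a * y * a⁻¹)⁻¹) * a := by rw [hw']; group
    rw [e, hw']
    rcases hy' with h | h <;> rw [h]
    · exact Or.inl rfl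
    · exact Or.inr (by rw [← mul_assoc a⁻¹, hcent a⁻¹]; group)
  have hne' : w * w' ≠ w' * w := by
    intro hc
    have hwns : NonScalar w := Cfsg.Agent.Lib.SLOddIndex.nonScalar_axis h2 hww
    have htr0 : slTr w = 0 := (Cfsg.Agent.Lib.SLOddIndex.tr_zero_of_sq h2 hww).1
    have htr0' : slTr w' = 0 := (Cfsg.Agent.Lib.SLOddIndex.tr_zero_of_sq h2 hww').1
    have h4 : (4 : F) ≠ 0 := by
      intro h; rw [show (4 : F) = 2 * 2 by norm_num] at h
      rcases mul_eq_zero.1 h with h | h <;> exact h2 h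
    obtain ⟨ε, hε, hεw⟩ : ∃ ε : SL2, (ε = 1 ∨ ε = negOne) ∧ w' = ε * w := by
      rcases eq_or_eq_inv h2 hwns (by rw [htr0]; simpa using h4.symm) hc.symm (by rw [htr0, htr0']) with h | h
      · exact ⟨1, Or.inl rfl, by rw [h, one_mul]⟩
      · exact ⟨negOne, Or.inr rfl, by rw [h, inv_eq_negOne_mul hww]⟩
    have hεc : ∀ r, ε * r = r * ε := by rcases hε with rfl | rfl; · simp
                                        · exact negOne_central
    -- `a w = ε w a`
    have haw : a * w = ε * (w * a) := by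
      have h1 : w * a = a * (ε * w) := by rw [← hεw, hw']; group
      have hεε : ε * ε = 1 := by rcases hε with rfl | rfl <;> simp [negOne_sq]
      rw [h1, ← mul_assoc a, ← hεc a, ← mul_assoc, ← mul_assoc, hεε, one_mul]
    rw [hae] at haw
    obtain ⟨δ, hδ, hδw⟩ : ∃ δ : SL2, (δ = 1 ∨ δ = negOne) ∧ qa⁻¹ * w * qa⁻¹⁻¹ = δ * w := by
      rcases d.conj_pm (inv_mem hqa) hwQ with h | h
      · exact ⟨1, Or.inl rfl, by rw [h, one_mul]⟩
      · exact ⟨negOne, Or.inr rfl, h⟩
    refine d.moves_line h2 he3 hw (ε * δ) ?_ ?_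
    · rcases hε with rfl | rfl <;> rcases hδ with rfl | rfl <;> simp [negOne_sq]
    · calc d.omega h2 ^ e * w = qa⁻¹ * (qa * d.omega h2 ^ e * w) := by group
        _ = qa⁻¹ * ε * w * qa * d.omega h2 ^ e := by rw [haw]; group
        _ = ε * (qa⁻¹ * w * qa⁻¹⁻¹) * d.omega h2 ^ e := by rw [← hεc qa⁻¹]; group
        _ = _ := by rw [hδw]; group
  refine hne (le_antisymm (fun y hy => ?_) hQL)
  exact d.mem_of_lines hwQ hw'Q hww hww' hne' (hwX y (Subgroup.mem_sup_left hy)) (hL y hy)

end Cfsg.Agent.Lib.SpPronormal50
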