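import Cfsg.Agent.Lib.SpPronormal50.Tau
import Cfsg.Agent.Lib.SpPronormal50.Abstract
import Mathlib

/-!
The block monomial 2-subgroup and its normaliser.
-/

set_option autoImplicit false
set_option linter.unusedSectionVars false
set_option linter.style.haveILetI false

namespace Cfsg.Agent.Lib.SpPronormal50

open Matrix Cfsg.Agent.Lib.PSLTwo.Sylow Cfsg.Agent.Lib.FusionPSp4

universe v

variable {F : Type v} [Field F] [Fintype F] {ι : Type} [Fintype ι] [DecidableEq ι]

local notation "R2" => Matrix (Fin 2) (Fin 2) F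
local notation "SL2" => Matrix.SpecialLinearGroup (Fin 2) F

/-- The block monomial subgroup. -/
def mS (Q : Subgroup (Matrix.SpecialLinearGroup (Fin 2) F)) (T : Subgroup (Equiv.Perm ι)) :
    Subgroup (U ι F) where
  carrier := {X | ∃ d σ, (∀ i, d i ∈ Q) ∧ σ ∈ T ∧ X = mono d σ}
  one_mem' := ⟨1, 1, fun _ => one_mem _, one_mem _, mono_one.symm⟩
  mul_mem' := by
    rintro _ _ ⟨d, σ, hd, hσ, rfl⟩ ⟨d', σ', hd', hσ', rfl⟩
    exact ⟨_, _, fun i => mul_mem (hd i) (hd' _), mul_mem hσ hσ', mono_mul d d' σ σ'⟩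
  inv_mem' := by
    rintro _ ⟨d, σ, hd, hσ, rfl⟩
    exact ⟨_, _, fun i => inv_mem (hd _), inv_mem hσ, mono_inv d σ⟩

variable {Q : Subgroup (Matrix.SpecialLinearGroup (Fin 2) F)} {T : Subgroup (Equiv.Perm ι)}

theorem mono_mem_mS {d : ι → SL2} {σ : Equiv.Perm ι} (hd : ∀ i, d i ∈ Q) (hσ : σ ∈ T) :
    (mono d σ : U ι F) ∈ mS Q T := ⟨d, σ, hd, hσ, rfl⟩

theorem dia_mem_mS {d : ι → SL2} (hd : ∀ i, d i ∈ Q) : (dia d : U ι F) ∈ mS Q T :=
  mono_mem_mS hd (one_mem _)

theorem per_mem_mS {σ : Equiv.Perm ι} (hσ : σ ∈ T) : (per σ : U ι F) ∈ mS Q T :=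
  mono_mem_mS (fun _ => one_mem _) hσ

theorem of_mono_mem {d : ι → SL2} {σ : Equiv.Perm ι} (h : (mono d σ : U ι F) ∈ mS Q T) :
    (∀ i, d i ∈ Q) ∧ σ ∈ T := by
  obtain ⟨d', σ', hd, hσ, e⟩ := h
  obtain ⟨rfl, rfl⟩ := mono_inj e
  exact ⟨hd, hσ⟩

theorem plE_mem_mS (i : ι) {x : SL2} (hx : x ∈ Q) : (plE i x : U ι F) ∈ mS Q T := by
  rw [plE_eq]
  refine dia_mem_mS fun j => ?_
  by_cases h : j = i
  · subst h; rwa [Pi.mulSingle_eq_same]
  · rw [Pi.mulSingle_eq_of_ne h]; exact one_mem _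

theorem mem_of_plE_mem {i : ι} {x : SL2} (h : (plE i x : U ι F) ∈ mS Q T) : x ∈ Q := by
  rw [plE_eq, dia_apply] at h
  simpa using (of_mono_mem h).1 i

theorem card_mS : Nat.card (mS (ι := ι) Q T) = Nat.card Q ^ Fintype.card ι * Nat.card T := by
  let f : (ι → Q) × T → mS (ι := ι) Q T := fun p =>
    ⟨mono (fun i => (p.1 i : SL2)) p.2.1, mono_mem_mS (fun i => (p.1 i).2) p.2.2⟩
  have hf : Function.Bijective f := by
    constructor
    · intro p p' h
      obtain ⟨h1, h2⟩ := mono_inj (congrArg Subtype.val h)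
      exact Prod.ext (funext fun i => Subtype.ext (congrFun h1 i)) (Subtype.ext h2)
    · rintro ⟨_, d, σ, hd, hσ, rfl⟩
      exact ⟨⟨fun i => ⟨d i, hd i⟩, ⟨σ, hσ⟩⟩, rfl⟩
  rw [← Nat.card_eq_of_bijective f hf, Nat.card_prod, Nat.card_fun, Nat.card_eq_fintype_card (α := ι)]

/-! ### Monomial elements and planes -/

theorem mono_mulVec_ev (d : ι → SL2) (σ : Equiv.Perm ι) (i : ι) :
    mat (mono d σ : U ι F) *ᵥ ev i = fun k => (ev (σ i) : ι → R2) k * (d (σ i) : R2) := by
  funext k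
  rw [mulVec_ev, mat_mono, monoMat_apply]
  by_cases h : σ i = k
  · subst h; simp [ev]
  · simp [ev, h, Ne.symm h]

theorem mono_conj_plE (d : ι → SL2) (σ : Equiv.Perm ι) (i : ι) (x : SL2) :
    (mono d σ : U ι F) * plE i x * (mono d σ)⁻¹ = plE (σ i) (d (σ i) * x * (d (σ i))⁻¹) := by
  rw [conj_plE]
  have hU : IsU (fun k => (ev (σ i) : ι → R2) k * (d (σ i) : R2)) :=
    mono_mulVec_ev d σ i ▸ isU_mulVec (mono d σ) (isU_ev i)
  rw [pl_congr (mono_mulVec_ev d σ i) (isU_mulVec _ (isU_ev i)) hU, pl_conj_scale (isU_ev (σ i))]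
  rfl

theorem per_conj_plE (σ : Equiv.Perm ι) (i : ι) (x : SL2) :
    (per σ : U ι F) * plE i x * (per σ)⁻¹ = plE (σ i) x := by
  show mono 1 σ * plE i x * (mono 1 σ)⁻¹ = _
  rw [mono_conj_plE, Pi.one_apply, one_mul, inv_one, mul_one]

theorem plE_commute (i j : ι) :
    (plE i negOne : U ι F) * plE j negOne = plE j negOne * plE i negOne := by
  rw [plE_eq, plE_eq, ← map_mul, ← map_mul]
  congr 1
  funext m
  simp only [Pi.mul_apply]
  by_cases h1 : m = i
  · subst h1
    rw [Pi.mulSingle_eq_same]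
    exact negOne_central _
  · rw [Pi.mulSingle_eq_of_ne h1, one_mul, mul_one]

theorem plE_negOne_inj (h2 : (2 : F) ≠ 0) {i j : ι}
    (h : (plE i negOne : U ι F) = plE j negOne) : i = j := by
  by_contra hne
  rw [plE_eq, plE_eq, dia_apply, dia_apply] at h
  have := congrFun (mono_inj h).1 i
  rw [Pi.mulSingle_eq_same, Pi.mulSingle_eq_of_ne hne] at this
  exact negOne_ne_one h2 this

/-- Conjugates of block involutions under an element normalising the monomial subgroup. -/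
theorem conj_negOne_of_normalizer (hn : (negOne : SL2) ∈ Q) (hu : ∃ u ∈ Q, u * u ≠ 1) (h2 : (2 : F) ≠ 0) {g : U ι F}
    (hg : g ∈ Subgroup.normalizer ((mS (ι := ι) Q T : Subgroup (U ι F)) : Set (U ι F))) (i : ι) :
    ∃ m, (∀ k, k ≠ m → mat g k i = 0) ∧ (mat g m i).det = 1 := by
  set c := mat g *ᵥ ev i with hc
  have hcU : IsU c := isU_mulVec g (isU_ev i)
  obtain ⟨u, hu, huu⟩ := hu
  have hx : g * plE i negOne * g⁻¹ ∈ mS Q T :=
    (Subgroup.mem_normalizer_iff.1 hg _).1 (plE_mem_mS i hn)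
  obtain ⟨d, σ, hd, hσ, e⟩ := hx
  have hpl : pl c hcU negOne = mono d σ := (conj_plE g i negOne).symm.trans e
  rcases classify h2 hcU hpl with ⟨m, hz, h1, -⟩ | ⟨k, l, hkl, hσk, hσl, -, -, -⟩
  · refine ⟨m, fun k hk => ?_, ?_⟩
    · have := hz k hk; rwa [hc, mulVec_ev] at this
    · rwa [hc, mulVec_ev] at h1
  · exfalso
    set x := (mono d σ : U ι F) with hx'
    -- an `S`-conjugate of `x` commutes with `x`
    set s := (plE l u : U ι F) with hs
    have hsS : s ∈ mS Q T := plE_mem_mS l hu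
    have hs' : g⁻¹ * s * g ∈ mS Q T := (Subgroup.mem_normalizer_iff.1 hg _).2 (by
      rw [show g * (g⁻¹ * s * g) * g⁻¹ = s by group]; exact hsS)
    obtain ⟨d', σ', hd', hσ', e'⟩ := hs'
    have hconj : g⁻¹ * s * g * plE i negOne * (g⁻¹ * s * g)⁻¹ = plE (σ' i) negOne := by
      rw [e', mono_conj_plE, ← negOne_central, mul_inv_cancel_right]
    have hcm : (x * (s * x * s⁻¹)) = (s * x * s⁻¹) * x := by
      rw [← e]
      have h1 : s * (g * plE i negOne * g⁻¹) * s⁻¹ = g * plE (σ' i) negOne * g⁻¹ := by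
        rw [← hconj]; group
      rw [h1]
      calc g * plE i negOne * g⁻¹ * (g * plE (σ' i) negOne * g⁻¹)
          = g * (plE i negOne * plE (σ' i) negOne) * g⁻¹ := by group
        _ = g * (plE (σ' i) negOne * plE i negOne) * g⁻¹ := by rw [plE_commute]
        _ = _ := by group
    have hsx : s * x * s⁻¹ = mono (fun j => (Pi.mulSingle l u : ι → SL2) j * d j *
        ((Pi.mulSingle l u : ι → SL2) (σ.symm j))⁻¹) σ := by
      rw [hs, plE_eq, dia_apply, mono_inv, mono_mul, mono_mul]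
      rw [one_mul, inv_one, mul_one]
      congr 1
    rw [hsx, mono_mul, mono_mul] at hcm
    have h1 := congrFun (mono_inj hcm).1 k
    have hs1 : σ.symm k = l := by rw [← hσl, Equiv.symm_apply_apply]
    have hs2 : σ.symm l = k := by rw [← hσk, Equiv.symm_apply_apply]
    simp only [hs1, hs2, Pi.mulSingle_eq_same, Pi.mulSingle_eq_of_ne hkl, one_mul, inv_one,
      mul_one] at h1
    rw [← mul_assoc] at h1
    have h3 : u = u⁻¹ := mul_left_cancel (mul_right_cancel h1)
    have h4 : u * u = 1 := by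
      conv_lhs => arg 2; rw [h3]
      exact mul_inv_cancel _
    exact huu h4

/-- The normaliser of the monomial subgroup. -/
theorem normalizer_mS (hn : (negOne : SL2) ∈ Q) (hu : ∃ u ∈ Q, u * u ≠ 1) (h2 : (2 : F) ≠ 0)
    (hT : Subgroup.normalizer (T : Set (Equiv.Perm ι)) ≤ T)
    (htr : ∀ i j : ι, ∃ t ∈ T, t i = j) [Nonempty ι] {g : U ι F}
    (hg : g ∈ Subgroup.normalizer ((mS (ι := ι) Q T : Subgroup (U ι F)) : Set (U ι F))) :
    ∃ d ∈ Subgroup.normalizer (Q : Set SL2), ∃ s ∈ mS Q T, g = dia (fun _ => d) * s := by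
  classical
  haveI : Fintype (U ι F) := Fintype.ofFinite _
  have hg' := Subgroup.mem_normalizer_iff.1 hg
  choose π hπ0 hπ1 using conj_negOne_of_normalizer hn hu h2 hg
  have hπi : Function.Injective π := by
    intro i j hij
    have hcol : ∀ i, ∃ δ : SL2, mat g *ᵥ ev i = fun k => (ev (π i) : ι → R2) k * (δ : R2) := by
      intro i
      refine ⟨⟨_, hπ1 i⟩, funext fun k => ?_⟩
      rw [mulVec_ev]
      show _ = vscale (ev (π i)) (mat g (π i) i) k
      rw [vscale_ev]
      by_cases hk : k = π i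
      · rw [if_pos hk, hk]
      · rw [if_neg hk, hπ0 i k hk]
    have hz : ∀ i, g * plE i negOne * g⁻¹ = plE (π i) negOne := by
      intro i
      obtain ⟨δ, hδ⟩ := hcol i
      have hU : IsU (fun k => (ev (π i) : ι → R2) k * (δ : R2)) := hδ ▸ isU_mulVec g (isU_ev i)
      rw [conj_plE, pl_congr hδ (isU_mulVec g (isU_ev i)) hU, pl_conj_scale (isU_ev (π i)),
        ← negOne_central, mul_inv_cancel_right]
      rfl
    refine plE_negOne_inj (F := F) h2 ?_
    have h3 := (hz i).trans ((congrArg (fun m => (plE m negOne : U ι F)) hij).trans (hz j).symm)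
    exact mul_left_cancel (mul_right_cancel h3)
  set p : Equiv.Perm ι := Equiv.ofBijective π (Finite.injective_iff_bijective.1 hπi) with hp
  obtain ⟨d, hd⟩ : ∃ d : ι → SL2, ∀ k, (d k : R2) = mat g k (p.symm k) :=
    ⟨fun k => ⟨mat g k (p.symm k), by
      have h := hπ1 (p.symm k)
      rwa [show π (p.symm k) = k from p.apply_symm_apply k] at h⟩, fun _ => rfl⟩
  have hgm : g = mono d p := by
    refine mat_injective ?_
    refine Eq.trans ?_ (mat_mono _ _).symm
    ext1 k j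
    rw [monoMat_apply]
    by_cases hk : p j = k
    · rw [if_pos hk, hd, ← hk, p.symm_apply_apply]
    · rw [if_neg hk, hπ0 j k fun e => hk e.symm]
  subst hgm
  have hdN : ∀ i, d i ∈ Subgroup.normalizer (Q : Set SL2) := by
    intro i
    refine mem_normalizer_of_forall fun q hq => ?_
    have h1 := (hg' _).1 (plE_mem_mS (T := T) (p.symm i) hq)
    rw [mono_conj_plE, Equiv.apply_symm_apply] at h1
    exact mem_of_plE_mem h1
  have hpT : p ∈ T := by
    refine hT (mem_normalizer_of_forall fun t ht => ?_)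
    have h1 := (hg' _).1 (per_mem_mS (Q := Q) ht)
    change mono d p * mono 1 t * (mono d p)⁻¹ ∈ mS Q T at h1
    rw [mono_inv, mono_mul, mono_mul] at h1
    exact (of_mono_mem h1).2
  have hdia : (dia d : U ι F) ∈ Subgroup.normalizer ((mS (ι := ι) Q T : Subgroup (U ι F)) : Set (U ι F)) := by
    have : (dia d : U ι F) = mono d p * (per p)⁻¹ := by rw [mono_eq, mul_inv_cancel_right]
    rw [this]
    exact mul_mem hg (inv_mem (Subgroup.le_normalizer (per_mem_mS hpT)))
  obtain ⟨i0⟩ := ‹Nonempty ι›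
  have hcoset : ∀ i, (d i0)⁻¹ * d i ∈ Q := by
    intro i
    obtain ⟨t, ht, hti⟩ := htr i0 i
    have h1 := (Subgroup.mem_normalizer_iff.1 hdia _).1 (per_mem_mS (Q := Q) ht)
    change mono d 1 * mono 1 t * (mono d 1)⁻¹ ∈ mS Q T at h1
    rw [mono_inv, mono_mul, mono_mul] at h1
    have h3 := (of_mono_mem h1).1 i
    simp at h3
    rw [show t.symm i = i0 by rw [← hti, Equiv.symm_apply_apply]] at h3
    have h4 := (Subgroup.mem_normalizer_iff.1 (inv_mem (hdN i0)) _).1 h3
    simpa [mul_assoc] using h4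
  refine ⟨d i0, hdN i0, mono (fun i => (d i0)⁻¹ * d i) p, mono_mem_mS hcoset hpT, ?_⟩
  rw [dia_apply, mono_mul, one_mul]
  congr 1
  funext i
  simp
  rfl

end Cfsg.Agent.Lib.SpPronormal50
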