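import Cfsg.Agent.Lib.SpPronormal50.Mono
import Mathlib

/-!
Involutions of plane type in the block monomial group, and what a conjugate of a block involution to a
transposition type one yields.
-/

set_option autoImplicit false
set_option linter.unusedSectionVars false
set_option linter.style.haveILetI false

namespace Cfsg.Agent.Lib.SpPronormal50

open Matrix Cfsg.Agent.Lib.PSLTwo.Sylow Cfsg.Agent.Lib.FusionPSp4

universe v

variable {F : Type v} [Field F] [Fintype F] {ι : Type} [Fintype ι] [DecidableEq ι]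

local notation "R2" => Matrix (Fin 2) (Fin 2) F
local notation "SL2" => Matrix.SpecialLinearGroup (Fin 2) F

theorem adjugate_mul_of_det {A : R2} : A.adjugate * A = A.det • (1 : R2) := Matrix.adjugate_mul A

/-- The plane involutions that are block monomial. -/
theorem classify (h2 : (2 : F) ≠ 0) {c : ι → R2} (hc : IsU c) {d : ι → SL2} {σ : Equiv.Perm ι}
    (hx : pl c hc negOne = mono d σ) :
    (∃ i, (∀ k, k ≠ i → c k = 0) ∧ (c i).det = 1 ∧ pl c hc negOne = plE i negOne) ∨
      ∃ k l, k ≠ l ∧ σ k = l ∧ σ l = k ∧ (2 : F) * (c k).det = 1 ∧ c l = -((d l : R2) * c k) ∧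
        ∀ i, i ≠ k → i ≠ l → c i = 0 := by
  have ent : ∀ a b, (if σ b = a then (d a : R2) else 0) = (1 : Matrix ι ι R2) a b -
      (2 : F) • (c a * (c b).adjugate) := by
    intro a b
    have h := congrArg (fun X => mat X a b) hx
    simp only [mat_pl, mat_mono, plMat_negOne_apply, monoMat_apply] at h
    exact h.symm
  by_cases hσ : σ = 1
  · left
    obtain ⟨i, hi⟩ : ∃ i, (c i).det ≠ 0 := by
      by_contra hno
      have h1 := sum_det c hc
      rw [Finset.sum_eq_zero fun i _ => not_not.1 fun h => hno ⟨i, h⟩] at h1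
      exact zero_ne_one h1
    have h0 : ∀ k, k ≠ i → c k * (c i).adjugate = 0 := by
      intro k hk
      have h := ent k i
      rw [hσ, Equiv.Perm.one_apply, if_neg (Ne.symm hk), Matrix.one_apply_ne hk, zero_sub] at h
      exact (two_smul_eq_zero_iff h2).1 (neg_eq_zero.1 h.symm)
    obtain ⟨hz, h1⟩ := unit_column hc i h0 hi
    refine ⟨i, hz, h1, ?_⟩
    obtain ⟨δ, hδ⟩ : ∃ δ : SL2, (δ : R2) = c i := ⟨⟨_, h1⟩, rfl⟩
    have hc' : c = fun k => (ev i : ι → R2) k * (δ : R2) := by
      funext k
      show _ = vscale (ev i) (δ : R2) k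
      rw [vscale_ev, hδ]
      by_cases hk : k = i
      · rw [if_pos hk, hk]
      · rw [if_neg hk, hz k hk]
    have hU' : IsU (fun k => (ev i : ι → R2) k * (δ : R2)) := by rw [← hc']; exact hc
    rw [pl_congr hc' hc hU', pl_conj_scale (isU_ev i), ← negOne_central, mul_inv_cancel_right]
    rfl
  · right
    obtain ⟨k, hk⟩ : ∃ k, σ k ≠ k := by
      by_contra hno
      exact hσ (Equiv.ext fun k => not_not.1 fun h => hno ⟨k, h⟩)
    set l := σ k with hl
    have hkl : k ≠ l := Ne.symm hk
    have h1 := ent k k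
    rw [if_neg (show σ k ≠ k from hk), Matrix.one_apply_eq, Matrix.mul_adjugate, smul_smul] at h1
    have hdet : (2 : F) * (c k).det = 1 := by
      have h3 := congrFun (congrFun h1 0) 0
      simp at h3
      linear_combination h3
    have h3 := ent l k
    rw [if_pos rfl, Matrix.one_apply_ne hkl.symm, zero_sub] at h3
    have hcl : c l = -((d l : R2) * c k) := by
      rw [h3, neg_mul, neg_neg, smul_mul_assoc, mul_assoc, Matrix.adjugate_mul, mul_smul_comm, mul_one,
        smul_smul, hdet, one_smul]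
    have hrest : ∀ i, i ≠ k → i ≠ l → c i = 0 := by
      intro i hik hil
      have h := ent i k
      rw [if_neg (Ne.symm hil), Matrix.one_apply_ne hik, zero_sub] at h
      have h4 := congrArg (· * c k) ((two_smul_eq_zero_iff h2).1 (neg_eq_zero.1 h.symm))
      simp only [mul_assoc, Matrix.adjugate_mul, mul_smul_comm, mul_one, zero_mul] at h4
      have h5 : ((2 : F) * (c k).det) • c i = 0 := by rw [mul_smul, h4, smul_zero]
      rwa [hdet, one_smul] at h5
    refine ⟨k, l, hkl, rfl, ?_, hdet, hcl, hrest⟩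
    by_contra hσl
    have h4 := ent k l
    rw [if_neg hσl, Matrix.one_apply_ne hkl, zero_sub, hcl, adj_neg, mul_neg, smul_neg, neg_neg,
      Matrix.adjugate_mul_distrib, ← mul_assoc, Matrix.mul_adjugate, smul_mul_assoc, one_mul,
      smul_smul, hdet, one_smul] at h4
    have h5 : (Matrix.adjugate (d l : R2)).det = 0 := by rw [← h4]; simp
    rw [Matrix.det_adjugate, (d l).2, one_pow] at h5
    exact one_ne_zero h5

theorem plE_mulVec (k : ι) (x : SL2) (d : ι → R2) (i : ι) :
    (mat (plE k x : U ι F) *ᵥ d) i = if i = k then (x : R2) * d k else d i := by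
  rw [plE, pl_mulVec, inner'_ev_left]
  by_cases h : i = k
  · subst h
    rw [if_pos rfl]
    simp only [ev, Pi.single_eq_same, one_mul, sub_mul]
    abel
  · rw [if_neg h]
    simp [ev, h]

/-- The elements supported on the plane of a column `(g, g)`. -/
theorem plane_elt {k l : ι} (hkl : k ≠ l) {c : ι → R2} (hc : IsU c) {g : R2}
    (hdet : (2 : F) * g.det = 1) (hck : c k = g) (hcl : c l = g)
    (hrest : ∀ i, i ≠ k → i ≠ l → c i = 0) (q : SL2) (y : SL2)
    (hy : (y : R2) = (2 : F) • (g.adjugate * (q : R2) * g)) (d : ι → R2) (i : ι) :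
    (mat (pl c hc y) *ᵥ d) i =
      if i = k ∨ i = l then d i + (2 : F)⁻¹ • (((q : R2) - 1) * (d k + d l)) else d i := by
  have hinv : (2 : F)⁻¹ = g.det := inv_eq_of_mul_eq_one_right hdet
  rw [pl_mulVec]
  by_cases hi : i = k ∨ i = l
  · rw [if_pos hi]
    congr 1
    have hin : inner' c d = g.adjugate * (d k + d l) := by
      unfold inner'
      rw [← Finset.sum_subset (Finset.subset_univ ({k, l} : Finset ι)), Finset.sum_pair hkl, hck, hcl,
        mul_add]
      intro j _ hj
      rw [Finset.mem_insert, Finset.mem_singleton, not_or] at hj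
      rw [hrest j hj.1 hj.2, adj_zero, zero_mul]
    have hcg : c i = g := by rcases hi with rfl | rfl <;> assumption
    have key : g * ((y : R2) - 1) * g.adjugate = (2 : F)⁻¹ • ((q : R2) - 1) := by
      rw [hy, mul_sub, sub_mul, mul_one, mul_smul_comm, smul_mul_assoc,
        show g * (g.adjugate * (q : R2) * g) * g.adjugate =
          (g * g.adjugate) * (q : R2) * (g * g.adjugate) by noncomm_ring, Matrix.mul_adjugate]
      simp only [smul_mul_assoc, mul_smul_comm, one_mul, mul_one, smul_smul]
      rw [hinv, ← mul_assoc (2 : F), hdet, one_mul, smul_sub]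
    rw [hcg, hin, ← mul_assoc, key, smul_mul_assoc]
  · rw [if_neg hi]
    rw [not_or] at hi
    rw [hrest i hi.1 hi.2, zero_mul, zero_mul, add_zero]

/-- The word giving `ω` at two blocks. -/
theorem word_eq {Q : Subgroup SL2} (qd : Quat Q) (h2 : (2 : F) ≠ 0) {k l : ι} (hkl : k ≠ l)
    {A B : U ι F}
    (hA : ∀ (d : ι → R2) (i : ι), (mat A *ᵥ d) i =
      if i = k ∨ i = l then d i + (2 : F)⁻¹ • (((qd.u : R2) - 1) * (d k + d l)) else d i)
    (hB : ∀ (d : ι → R2) (i : ι), (mat B *ᵥ d) i =
      if i = k ∨ i = l then d i + (2 : F)⁻¹ • (((qd.v : R2) - 1) * (d k + d l)) else d i) :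
    A * plE k (qd.u * qd.v) * B * plE k qd.u = plE k (qd.omega h2) * plE l (qd.omega h2) := by
  refine eq_of_mulVec fun d => funext fun i => ?_
  have hω : ((qd.omega h2 : SL2) : R2) =
      (2 : F)⁻¹ • (1 + (qd.u : R2) + (qd.v : R2) + (qd.u : R2) * (qd.v : R2)) := rfl
  simp only [mat_mulVec_mul, hA, hB, plE_mulVec, Matrix.SpecialLinearGroup.coe_mul, hω]
  have huv : (qd.u : R2) * (qd.v : R2) * (qd.u : R2) = (qd.v : R2) := by
    rw [mul_assoc, qd.coe_vu, mul_neg, qd.coe_uux, neg_neg]
  by_cases hik : i = k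
  · subst hik
    simp only [true_or, if_true, if_neg hkl, if_neg (Ne.symm hkl), or_true]
    simp only [mul_add, add_mul, sub_mul, mul_sub, smul_mul_assoc, mul_smul_comm, smul_add, smul_sub,
      smul_smul, one_mul, mul_one, mul_assoc, qd.coe_uu, qd.coe_vv, qd.coe_vu, qd.coe_uux, qd.coe_vvx,
      qd.coe_vux, mul_neg, neg_mul, neg_neg, smul_neg, huv]
    match_scalars <;> field_simp <;> ring
  · by_cases hil : i = l
    · subst hil
      simp only [or_true, if_true, if_neg hkl, if_neg hik, true_or]
      simp only [mul_add, add_mul, sub_mul, mul_sub, smul_mul_assoc, mul_smul_comm, smul_add, smul_sub,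
        smul_smul, one_mul, mul_one, mul_assoc, qd.coe_uu, qd.coe_vv, qd.coe_vu, qd.coe_uux, qd.coe_vvx,
        qd.coe_vux, mul_neg, neg_mul, neg_neg, smul_neg, huv]
      match_scalars <;> field_simp <;> ring
    · simp [hik, hil]

end Cfsg.Agent.Lib.SpPronormal50
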